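import Groth.Agent.FunFld.Splitting
import Groth.Agent.FunFld.RatBelow
import Groth.Agent.FunFld.Ext.Lattice
import Groth.Agent.FunFld.ConstDisc
import Mathlib.FieldTheory.Minpoly.IsIntegrallyClosed

/-! Integral closures of places in constant extensions: basic facts. -/

set_option autoImplicit false
universe u v w

open WithZero _root_.FunFld Polynomial
open scoped TensorProduct

noncomputable section

attribute [-instance] IsLocalRing.instModuleResidueFieldOfAlgebra

namespace Groth.Agent.FunFld.ScalarExt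

section Place

variable {k : Type u} {K : Type v} [Field k] [Field K] [Algebra k K]

/-- Integrality over the image of a place's valuation ring is integrality over the ring. -/
theorem isIntegral_image_iff (P : Place k K) {R : Type w} [CommRing R] [Algebra K R] [Algebra P.O R]
    [IsScalarTower P.O K R] (hinj : Function.Injective (algebraMap K R)) {z : R} :
    IsIntegral (P.O.toSubring.map (algebraMap K R)) z ↔ IsIntegral P.O z := by
  let e := Subring.equivMapOfInjective P.O.toSubring (algebraMap K R) hinj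
  constructor
  · intro hz
    refine hz.map_of_comp_eq e.symm.toRingHom (RingHom.id R) (RingHom.ext fun a => ?_)
    show algebraMap P.O R (e.symm a) = (a : R)
    rw [IsScalarTower.algebraMap_apply P.O K R]
    exact congrArg Subtype.val (e.apply_symm_apply a)
  · intro hz
    refine hz.map_of_comp_eq e.toRingHom (RingHom.id R) (RingHom.ext fun a => ?_)
    show ((e a : P.O.toSubring.map (algebraMap K R)) : R) = algebraMap P.O R a
    rw [IsScalarTower.algebraMap_apply P.O K R]
    rfl

theorem mem_image_of_le (P : Place k K) {R : Type w} [CommRing R] [Algebra K R] {a : K} (ha : P.1 a ≤ 1) :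
    algebraMap K R a ∈ P.O.toSubring.map (algebraMap K R) := ⟨a, ha, rfl⟩

/-- An element integral over the valuation ring of a place is integral at the places above. -/
theorem val_le_one_of_isIntegral {K' : Type w} [Field K'] [Algebra K K'] {k₂ : Type*} [Field k₂] [Algebra k₂ K']
    (P : Place k K) (R : Place k₂ K') (hR : ∀ a : K, P.1 a ≤ 1 → R.1 (algebraMap K K' a) ≤ 1) {z : K'}
    (hz : IsIntegral (P.O.toSubring.map (algebraMap K K')) z) : R.1 z ≤ 1 := by
  have h1 : IsIntegral R.O z := by
    let ι : (P.O.toSubring.map (algebraMap K K')) →+* R.O :=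
      ((P.O.toSubring.map (algebraMap K K')).subtype).codRestrict R.O (by
        rintro ⟨_, a, ha, rfl⟩; exact hR a ha)
    exact hz.map_of_comp_eq ι (RingHom.id K') (RingHom.ext fun _ => rfl)
  obtain ⟨c, hc⟩ := IsIntegrallyClosed.isIntegral_iff.1 h1
  exact hc ▸ c.2

/-- Constants are integral over the valuation ring. -/
theorem isIntegral_const (P : Place k K) {k' : Type*} [Field k'] [Algebra k k'] [Algebra.IsAlgebraic k k']
    {R : Type w} [CommRing R] [Algebra K R] [Algebra k' R] [Algebra k R] [IsScalarTower k k' R]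
    [IsScalarTower k K R] (c : k') : IsIntegral (P.O.toSubring.map (algebraMap K R)) (algebraMap k' R c) := by
  let ι : k →+* P.O.toSubring.map (algebraMap K R) :=
    (algebraMap k R).codRestrict _ fun a => by
      rw [IsScalarTower.algebraMap_apply k K R]; exact mem_image_of_le P (P.2.1 a)
  exact (Algebra.IsIntegral.isIntegral c).map_of_comp_eq ι (algebraMap k' R)
    (RingHom.ext fun a => IsScalarTower.algebraMap_apply k k' R a)

theorem adjoin_le_integralClosure (P : Place k K) {k' : Type*} [Field k'] [Algebra k k'] [Algebra.IsAlgebraic k k']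
    {R : Type w} [CommRing R] [Algebra K R] [Algebra k' R] [Algebra k R] [IsScalarTower k k' R]
    [IsScalarTower k K R] : Algebra.adjoin (P.O.toSubring.map (algebraMap K R)) (Set.range (algebraMap k' R)) ≤
      integralClosure (P.O.toSubring.map (algebraMap K R)) R :=
  Algebra.adjoin_le (by rintro _ ⟨c, rfl⟩; exact isIntegral_const P c)

theorem exists_val_eq_one_of_finite_places (hK : IsFunctionField k K) {x : K} (hx : Transcendental k x)
    {P : Place k K} (hP : P.1 x ≤ 1) (S : Finset (Place k K)) (hS : ∀ R ∈ S, R ≠ P) (M : ℕ) :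
    ∃ u : K, P.1 u = 1 ∧ (∀ R : Place k K, R.1 x ≤ 1 → R.1 u ≤ 1) ∧ ∀ R ∈ S, R.1 x ≤ 1 → R.1 u ≤ exp (-(M : ℤ)) := by
  classical
  obtain ⟨Ri, hRi⟩ := exists_pole hK hx
  have hx0 : x ≠ 0 := fun e => hx (e ▸ isAlgebraic_zero)
  have hne : ∀ R : Place k K, R.1 x ≤ 1 → R ≠ Ri := fun R hR e => by
    rw [e] at hR; exact absurd ((ord_nonneg_iff Ri hx0).2 hR) (not_le.2 hRi)
  set D₀ : Divisor k K := ∑ R ∈ S, Finsupp.single R (M : ℤ) with hD₀
  set n : ℕ := 2 * genus k K + P.deg + D₀.deg.natAbs + 1 with hn
  set D : Divisor k K := Finsupp.single Ri (n : ℤ) - D₀ with hD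
  have hdeg : (2 * genus k K + P.deg + 1 : ℤ) ≤ D.deg := by
    rw [hD, deg_sub, deg_single]
    have h1 : (1 : ℤ) ≤ Ri.deg := by exact_mod_cast deg_pos hK Ri
    have h2 : (n : ℤ) ≤ n * (Ri.deg : ℤ) := le_mul_of_one_le_right (by omega) h1
    omega
  have hl := ell_eq_of_deg_ge hK (D := D) (by omega)
  have hl' := ell_eq_of_deg_ge hK (D := D - Finsupp.single P 1) (by rw [deg_sub, deg_single]; omega)
  rw [deg_sub, deg_single] at hl'
  have hnot : ¬ L D ≤ L (D - Finsupp.single P 1) := fun h => by
    haveI := L_finite hK (D - Finsupp.single P 1)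
    have h1 : ell D ≤ ell (D - Finsupp.single P 1) := Submodule.finrank_mono h
    have := deg_pos hK P
    omega
  obtain ⟨u, hu, hu'⟩ := SetLike.not_le_iff_exists.1 hnot
  have hD₀P : D₀ P = 0 := by
    rw [hD₀, Finsupp.finsetSum_apply]
    exact Finset.sum_eq_zero fun R hR => Finsupp.single_eq_of_ne (Ne.symm (hS R hR))
  have hD₀0 : ∀ R, 0 ≤ D₀ R := fun R => by
    rw [hD₀, Finsupp.finsetSum_apply]
    exact Finset.sum_nonneg fun R' _ => by rw [Finsupp.single_apply]; split_ifs <;> omega
  have hDR : ∀ R, R.1 x ≤ 1 → D R = - D₀ R := fun R hR => by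
    rw [hD, Finsupp.sub_apply, Finsupp.single_eq_of_ne (hne R hR), zero_sub]
  refine ⟨u, ?_, fun R hR => ?_, fun R hRS hR => ?_⟩
  · refine le_antisymm ?_ (not_lt.1 fun hlt => hu' fun R => ?_)
    · have := hu P
      rwa [hDR P hP, hD₀P, neg_zero, exp_zero] at this
    · rcases eq_or_ne R P with rfl | hRP
      · rw [Finsupp.sub_apply, Finsupp.single_eq_same, hDR R hP, hD₀P]
        exact ((lt_one_iff_le R).1 hlt).trans (by rw [exp_le_exp]; omega)
      · rw [Finsupp.sub_apply, Finsupp.single_eq_of_ne hRP, sub_zero]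
        exact hu R
  · refine (hu R).trans ?_
    rw [hDR R hR, ← exp_zero, exp_le_exp]
    have := hD₀0 R
    omega
  · refine (hu R).trans ?_
    rw [hDR R hR, exp_le_exp, neg_le_neg_iff, hD₀, Finsupp.finsetSum_apply,
      Finset.sum_eq_single R (fun R' _ h => Finsupp.single_eq_of_ne (Ne.symm h)) (fun h => absurd hRS h), Finsupp.single_eq_same]

theorem val_aeval_of_gt (P : Place k K) {x : K} (hx : 1 < P.1 x) {g : k[X]} (hg : g ≠ 0) :
    1 ≤ P.1 (aeval x g) := by
  classical
  rw [aeval_eq_sum_range, Finset.sum_range_succ, coeff_natDegree]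
  have htop : P.1 (g.leadingCoeff • x ^ g.natDegree) = P.1 x ^ g.natDegree := by
    rw [val_smul P (leadingCoeff_ne_zero.2 hg), map_pow]
  rcases Nat.eq_zero_or_pos g.natDegree with h0 | h0
  · rw [h0] at htop ⊢
    rw [Finset.sum_range_zero, zero_add, htop, pow_zero]
  have hlt : P.1 (∑ i ∈ Finset.range g.natDegree, g.coeff i • x ^ i) < P.1 (g.leadingCoeff • x ^ g.natDegree) := by
    refine lt_of_le_of_lt (b := P.1 x ^ (g.natDegree - 1)) (Valuation.map_sum_le _ fun i hi => ?_) ?_
    · refine (val_smul_le P _ _).trans ?_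
      rw [map_pow]
      exact pow_le_pow_right₀ hx.le (by have := Finset.mem_range.1 hi; omega)
    · rw [htop]; exact pow_lt_pow_right₀ hx (by omega)
  rw [Valuation.map_add_eq_of_lt_right P.1 hlt, htop]
  exact one_le_pow₀ hx.le

/-- An element without poles at the finite places is integral over `k[x]`. -/
theorem isIntegral_of_finite_places (hK : IsFunctionField k K) {x : K} (hx : Transcendental k x) {z : K}
    (h : ∀ P : Place k K, P.1 x ≤ 1 → P.1 z ≤ 1) : IsIntegral (Algebra.adjoin k ({x} : Set K)) z := by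
  classical
  haveI := finite_adjoin hK hx
  set K₀ := IntermediateField.adjoin k ({x} : Set K)
  have hK₀ := isFunctionField_rat hK hx
  set m := minpoly K₀ z
  have hint : IsIntegral K₀ z := IsIntegral.of_finite K₀ z
  have hcoef : ∀ i, ((m.coeff i : K₀) : K) ∈ Algebra.adjoin k ({x} : Set K) := by
    intro i
    set c := ((m.coeff i : K₀) : K)
    have hc : ∀ P : Place k K, P.1 x ≤ 1 → P.1 c ≤ 1 := by
      intro P hP
      obtain ⟨p, e, he⟩ := exists_below (K := K₀) P
      letI : Algebra p.O K := ((algebraMap K₀ K).comp p.O.subtype).toAlgebra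
      haveI : IsScalarTower p.O K₀ K := IsScalarTower.of_algebraMap_eq fun _ => rfl
      have hpx : p.1 (genOf k x) ≤ 1 := (val_le_one_iff ⟨e, he⟩ (genOf k x)).1 hP
      have hzp : IsIntegral p.O z := by
        rw [← mem_integralClosure_iff, integralClosure_eq hK₀ p, mem_Bring]
        exact fun R hR => h R ((val_le_one_iff ((mem_placesOver hK₀).1 hR) (genOf k x)).2 hpx)
      show P.1 (algebraMap K₀ K (m.coeff i)) ≤ 1
      refine (val_le_one_iff ⟨e, he⟩ _).2 ?_
      rw [show m = _ from minpoly.isIntegrallyClosed_eq_field_fractions' K₀ hzp, coeff_map]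
      exact ((minpoly p.O z).coeff i).2
    obtain ⟨f, g, hfg⟩ := (IntermediateField.mem_adjoin_simple_iff k c).1 (m.coeff i).2
    rcases eq_or_ne g 0 with rfl | hg
    · rw [map_zero, div_zero] at hfg
      rw [hfg]; exact zero_mem _
    obtain ⟨f', g', d, hrel, rfl, rfl⟩ := UniqueFactorizationMonoid.exists_reduced_factors' f g hg
    have hd : aeval x d ≠ 0 := fun e => hx ⟨d, left_ne_zero_of_mul hg, e⟩
    rw [map_mul, map_mul, mul_div_mul_left _ _ hd] at hfg
    have hg' : g' ≠ 0 := right_ne_zero_of_mul hg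
    have hgx : aeval x g' ≠ 0 := fun e => hx ⟨g', hg', e⟩
    by_cases hdeg : g'.natDegree = 0
    · rw [hfg, eq_C_of_natDegree_eq_zero hdeg, aeval_C, div_eq_mul_inv, ← map_inv₀]
      exact mul_mem (aeval_mem_adjoin_singleton k x) (Subalgebra.algebraMap_mem _ _)
    exfalso
    have htr : Transcendental k (aeval x g') := transcendental_of_not_mem hK fun ⟨r, hr⟩ => by
      refine hx ⟨g' - C r, fun e => hdeg ?_, by rw [map_sub, aeval_C, hr, sub_self]⟩
      rw [sub_eq_zero] at e; rw [e, natDegree_C]
    obtain ⟨P, hP⟩ := exists_zero hK htr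
    have hPg : P.1 (aeval x g') < 1 := (ord_pos_iff P hgx).1 hP
    have hPx : P.1 x ≤ 1 := not_lt.1 fun hlt => absurd hPg (not_lt.2 (val_aeval_of_gt P hlt hg'))
    have hPf : P.1 (aeval x f') < 1 := by
      rw [← div_mul_cancel₀ (aeval x f') hgx, ← hfg, map_mul]
      exact lt_of_le_of_lt (mul_le_mul' (hc P hPx) le_rfl) (by rwa [one_mul])
    obtain ⟨a, b, hab⟩ := hrel.isCoprime
    have h1 := congrArg (fun r => P.1 (aeval x r)) hab
    simp only [map_add, map_mul, map_one] at h1
    have h2 : P.1 (aeval x a * aeval x f' + aeval x b * aeval x g') < 1 := by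
      refine (P.1.map_add _ _).trans_lt (max_lt ?_ ?_) <;> rw [map_mul]
      · exact lt_of_le_of_lt (mul_le_mul' (val_aeval_le P hPx a) le_rfl) (by rwa [one_mul])
      · exact lt_of_le_of_lt (mul_le_mul' (val_aeval_le P hPx b) le_rfl) (by rwa [one_mul])
    exact absurd h1 (ne_of_lt h2)
  obtain ⟨q, hq, -, hqm⟩ := Polynomial.lifts_and_degree_eq_and_monic
    (f := algebraMap (Algebra.adjoin k ({x} : Set K)) K) (p := m.map (algebraMap K₀ K))
    ((Polynomial.lifts_iff_coeff_lifts _).2 fun i => ⟨⟨_, hcoef i⟩, by rw [coeff_map]; rfl⟩)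
    ((minpoly.monic hint).map _)
  exact ⟨q, hqm, by rw [← eval_map, hq, eval_map, ← aeval_def, minpoly.aeval]⟩

end Place

end Groth.Agent.FunFld.ScalarExt
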