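import Groth.Agent.FunFld.ScalarExt.Basic
import Groth.Agent.FunFld.Residue.DiffExpDual

/-! Coordinates in a constant extension; nonsingularity in towers. -/

set_option autoImplicit false
set_option linter.style.haveILetI false
universe u v w

open WithZero _root_.FunFld Polynomial
open scoped TensorProduct

noncomputable section

attribute [-instance] IsLocalRing.instModuleResidueFieldOfAlgebra

namespace Groth.Agent.FunFld.ScalarExt

section Coords

variable {k k' : Type u} {K K' : Type v} [Field k] [Field k'] [Field K] [Field K'] [Algebra k k'] [Algebra k K]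
  [Algebra K K'] [Algebra k' K'] [Algebra k K'] [IsScalarTower k k' K'] [IsScalarTower k K K']
  {ι : Type*} [Fintype ι] (β : Module.Basis ι k k') (b : Module.Basis ι K K')
  (hb : ∀ i, b i = algebraMap k' K' (β i))
include hb

theorem repr_const (c : k') (i : ι) : b.repr (algebraMap k' K' c) i = algebraMap k K (β.repr c i) := by
  have : algebraMap k' K' c = ∑ j, algebraMap k K (β.repr c j) • b j := by
    conv_lhs => rw [← β.sum_repr c, map_sum]
    refine Finset.sum_congr rfl fun j _ => ?_
    rw [hb, Algebra.smul_def, map_mul, ← IsScalarTower.algebraMap_apply, Algebra.smul_def,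
      ← IsScalarTower.algebraMap_apply]
  rw [this, b.repr_sum_self]

theorem repr_algebraMap (a : K) (i : ι) : b.repr (algebraMap K K' a) i = a * algebraMap k K (β.repr 1 i) := by
  rw [← repr_const β b hb (1 : k') i, map_one, Algebra.algebraMap_eq_smul_one, map_smul, Finsupp.smul_apply,
    smul_eq_mul]

theorem mem_adjoin_const_iff {A : Type*} [CommRing A] [Algebra A K'] (S₀ : Subring K)
    (hA : Set.range (algebraMap A K') = algebraMap K K' '' (S₀ : Set K)) (hk : ∀ c : k, algebraMap k K c ∈ S₀)
    (z : K') : z ∈ Algebra.adjoin A (Set.range (algebraMap k' K')) ↔ ∀ i, b.repr z i ∈ S₀ := by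
  classical
  constructor
  · intro hz
    induction hz using Algebra.adjoin_induction with
    | mem w hw =>
      obtain ⟨c, rfl⟩ := hw
      exact fun i => by rw [repr_const β b hb]; exact hk _
    | algebraMap r =>
      intro i
      obtain ⟨a, ha, hr⟩ := hA.le ⟨r, rfl⟩
      rw [← hr, repr_algebraMap β b hb]
      exact mul_mem ha (hk _)
    | add u w _ _ hu hw => exact fun i => by rw [map_add, Finsupp.add_apply]; exact add_mem (hu i) (hw i)
    | mul u w _ _ hu hw =>
      intro i
      have e : u * w = ∑ j, ∑ l, (b.repr u j * b.repr w l) • algebraMap k' K' (β j * β l) := by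
        conv_lhs => rw [← b.sum_repr u, ← b.sum_repr w, Finset.sum_mul_sum]
        refine Finset.sum_congr rfl fun j _ => Finset.sum_congr rfl fun l _ => ?_
        rw [map_mul, hb, hb, Algebra.smul_def, Algebra.smul_def, Algebra.smul_def, map_mul]
        ring
      rw [e]
      simp only [map_sum, map_smul, Finsupp.finsetSum_apply, Finsupp.smul_apply, smul_eq_mul, repr_const β b hb]
      exact sum_mem fun j _ => sum_mem fun l _ => mul_mem (mul_mem (hu j) (hw l)) (hk _)
  · intro h
    rw [← b.sum_repr z]
    refine sum_mem fun i _ => ?_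
    obtain ⟨r, hr⟩ := hA.ge ⟨_, h i, rfl⟩
    rw [Algebra.smul_def, ← hr, hb]
    exact mul_mem (Subalgebra.algebraMap_mem _ r) (Algebra.subset_adjoin ⟨_, rfl⟩)

omit hb in
theorem range_subring_map (S₀ : Subring K) :
    Set.range (algebraMap (S₀.map (algebraMap K K')) K') = algebraMap K K' '' (S₀ : Set K) := by
  ext z
  exact ⟨fun ⟨⟨_, a, ha, rfl⟩, hz⟩ => ⟨a, ha, hz⟩, fun ⟨a, ha, hz⟩ => ⟨⟨_, a, ha, rfl⟩, hz⟩⟩

theorem closure_mod_adjoin_finite (hK : IsFunctionField k K) (P : Place k K) [Algebra P.O K']
    [IsScalarTower P.O K K'] [FiniteDimensional K K'] :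
    (∃ V : Submodule k K', FiniteDimensional k V ∧ ∀ r ∈ integralClosure P.O K',
        ∃ s ∈ Algebra.adjoin P.O (Set.range (algebraMap k' K')), r - s ∈ V) ∧
    (∃ c ∈ integralClosure P.O K', c ≠ 0 ∧ ∀ r ∈ integralClosure P.O K',
        c * r ∈ Algebra.adjoin P.O (Set.range (algebraMap k' K'))) := by
  classical
  have hA : Set.range (algebraMap P.O K') = algebraMap K K' '' (P.O.toSubring : Set K) := by
    ext z
    constructor
    · rintro ⟨a, rfl⟩; exact ⟨(a : K), a.2, (IsScalarTower.algebraMap_apply P.O K K' a).symm⟩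
    · rintro ⟨a, ha, rfl⟩; exact ⟨⟨a, ha⟩, IsScalarTower.algebraMap_apply P.O K K' _⟩
  have hcrit := mem_adjoin_const_iff β b hb (A := P.O) P.O.toSubring hA (fun c => P.2.1 c)
  obtain ⟨b₀, -, -⟩ := exists_basis (K' := K') hK P
  obtain ⟨t, ht⟩ := exists_val P (-1)
  have ht0 := ne_zero_of_val P ht
  set N := ∑ l, ∑ i, (log (P.1 (b.repr ((b₀ l : Bring hK P K') : K') i))).toNat
  have hbound : ∀ l i, P.1 (t ^ N * b.repr ((b₀ l : Bring hK P K') : K') i) ≤ 1 := by
    intro l i
    rcases eq_or_ne (b.repr ((b₀ l : Bring hK P K') : K') i) 0 with h0 | h0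
    · simp [h0]
    have h1 : (log (P.1 (b.repr ((b₀ l : Bring hK P K') : K') i))).toNat ≤ N :=
      (Finset.single_le_sum (f := fun i => (log (P.1 (b.repr ((b₀ l : Bring hK P K') : K') i))).toNat)
        (fun _ _ => Nat.zero_le _) (Finset.mem_univ i)).trans
        (Finset.single_le_sum (f := fun l => ∑ i, (log (P.1 (b.repr ((b₀ l : Bring hK P K') : K') i))).toNat)
          (fun _ _ => Nat.zero_le _) (Finset.mem_univ l))
    rw [map_mul, map_pow, ht, ← exp_log (P.1.ne_zero_iff.2 h0), ← exp_nsmul, ← exp_add]
    refine le_of_le_of_eq (exp_le_exp.2 ?_) exp_zero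
    simp only [nsmul_eq_mul, mul_neg, mul_one]
    omega
  have hmemR : ∀ r ∈ integralClosure P.O K', ∃ c : _ → P.O,
      r = ∑ l, algebraMap K K' (c l : K) * ((b₀ l : Bring hK P K') : K') := by
    intro r hr
    rw [integralClosure_eq hK P] at hr
    refine ⟨fun l => b₀.repr ⟨r, hr⟩ l, ?_⟩
    have := congrArg (fun w : Bring hK P K' => (w : K')) (b₀.sum_repr ⟨r, hr⟩)
    simp only [AddSubmonoidClass.coe_finsetSum, Subalgebra.coe_smul] at this
    refine this.symm.trans (Finset.sum_congr rfl fun l _ => ?_)
    rw [Algebra.smul_def, IsScalarTower.algebraMap_apply P.O K K']; rfl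
  have hgen : ∀ l, algebraMap K K' (t ^ N) * ((b₀ l : Bring hK P K') : K') ∈
      Algebra.adjoin P.O (Set.range (algebraMap k' K')) := fun l => (hcrit _).2 fun i => by
    rw [← Algebra.smul_def, map_smul, Finsupp.smul_apply, smul_eq_mul]
    exact hbound l i
  have hsub : ∀ a : P.O, algebraMap K K' (a : K) ∈ Algebra.adjoin P.O (Set.range (algebraMap k' K')) := fun a => by
    have h := Subalgebra.algebraMap_mem (Algebra.adjoin P.O (Set.range (algebraMap k' K'))) a
    rwa [IsScalarTower.algebraMap_apply P.O K K'] at h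
  constructor
  · -- representatives of `O_P` modulo `t ^ n`
    have hW : ∀ n : ℕ, ∃ W : Submodule k K, FiniteDimensional k W ∧
        ∀ a : K, P.1 a ≤ 1 → ∃ w ∈ W, ∃ a' : K, P.1 a' ≤ 1 ∧ a = w + t ^ n * a' := by
      intro n
      induction n with
      | zero => exact ⟨⊥, inferInstance, fun a ha => ⟨0, zero_mem _, a, ha, by simp⟩⟩
      | succ n ih =>
        obtain ⟨W, hWf, hW⟩ := ih
        haveI hres : @Module.Finite k (IsLocalRing.ResidueField P.O) _ _ Algebra.toModule := residue_finite hK P
        haveI hWf' := hWf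
        obtain ⟨σ, hσ⟩ := LinearMap.exists_rightInverse_of_surjective (resL P) (LinearMap.range_eq_top.2 (resL_surjective P))
        let g : IsLocalRing.ResidueField P.O →ₗ[k] K :=
          (LinearMap.mulLeft k (t ^ n)) ∘ₗ (intK P).subtype ∘ₗ σ
        haveI hg : FiniteDimensional k (LinearMap.range g) := Module.Finite.range g
        refine ⟨W ⊔ LinearMap.range g, inferInstance, fun a ha => ?_⟩
        obtain ⟨w, hw, a', ha', rfl⟩ := hW a ha
        set r := σ (resL P ⟨a', ha'⟩)
        have hlt : P.1 (a' - r) < 1 := by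
          refine (resL_eq_zero P ((⟨a', ha'⟩ : intK P) - r)).1 ?_
          rw [map_sub, show resL P r = resL P ⟨a', ha'⟩ from LinearMap.congr_fun hσ _, sub_self]
        refine ⟨w + t ^ n * (r : K), Submodule.add_mem_sup hw ⟨_, rfl⟩, (a' - r) / t, ?_, by field_simp; ring⟩
        rw [map_div₀, ht, div_le_one₀ exp_pos]
        exact (lt_one_iff_le P).1 hlt
    obtain ⟨W, hWf, hW⟩ := hW N
    haveI := hWf
    let g : _ → (W →ₗ[k] K') := fun l =>
      (LinearMap.mulRight k ((b₀ l : Bring hK P K') : K')) ∘ₗ (IsScalarTower.toAlgHom k K K').toLinearMap ∘ₗ W.subtype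
    refine ⟨⨆ l, LinearMap.range (g l), inferInstance, fun r hr => ?_⟩
    obtain ⟨c, hc⟩ := hmemR r hr
    choose w hw a' ha' hca using fun l => hW (c l : K) (c l).2
    refine ⟨∑ l, algebraMap K K' (a' l) * (algebraMap K K' (t ^ N) * ((b₀ l : Bring hK P K') : K')),
      sum_mem fun l _ => mul_mem (hsub ⟨a' l, ha' l⟩) (hgen l), ?_⟩
    rw [hc, ← Finset.sum_sub_distrib]
    refine sum_mem fun l _ => Submodule.mem_iSup_of_mem l ⟨⟨w l, hw l⟩, ?_⟩
    show algebraMap K K' (w l) * _ = _
    rw [hca l, map_add, map_mul]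
    ring
  · refine ⟨algebraMap K K' (t ^ N), ?_, (_root_.map_ne_zero _).2 (pow_ne_zero _ ht0), fun r hr => ?_⟩
    · have htN : P.1 (t ^ N) ≤ 1 := by
        rw [map_pow, ht]; exact pow_le_one' (by rw [← exp_zero, exp_le_exp]; norm_num) _
      rw [show algebraMap K K' (t ^ N) = algebraMap P.O K' ⟨t ^ N, htN⟩ from
        (IsScalarTower.algebraMap_apply P.O K K' ⟨t ^ N, htN⟩).symm]
      exact Subalgebra.algebraMap_mem _ _
    · obtain ⟨c, hc⟩ := hmemR r hr
      rw [hc, Finset.mul_sum]
      refine sum_mem fun l _ => ?_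
      rw [mul_left_comm]
      exact mul_mem (hsub (c l)) (hgen l)

end Coords

section Tower

variable {k k' k'' : Type u} {K K' K'' : Type v} [Field k] [Field k'] [Field k''] [Field K] [Field K'] [Field K'']
  [Algebra k k'] [Algebra k' k''] [Algebra k k''] [IsScalarTower k k' k'']
  [FiniteDimensional k k'] [FiniteDimensional k' k'']
  [Algebra k K] [Algebra K K'] [Algebra k' K'] [Algebra k K'] [IsScalarTower k k' K'] [IsScalarTower k K K']
  [Algebra K' K''] [Algebra k'' K''] [Algebra k' K''] [Algebra k K''] [Algebra K K'']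
  [IsScalarTower k' k'' K''] [IsScalarTower k' K' K''] [IsScalarTower K K' K''] [IsScalarTower k K K'']

theorem nonsingular_tower
    (h1 : Function.Bijective (Algebra.TensorProduct.productMap
      (IsScalarTower.toAlgHom k k' K') (IsScalarTower.toAlgHom k K K')))
    (h2 : Function.Bijective (Algebra.TensorProduct.productMap
      (IsScalarTower.toAlgHom k' k'' K'') (IsScalarTower.toAlgHom k' K' K'')))
    (hK : IsFunctionField k K) (P : Place k K) :
    (integralClosure (P.O.toSubring.map (algebraMap K K'')) K'' =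
        Algebra.adjoin (P.O.toSubring.map (algebraMap K K'')) (Set.range (algebraMap k'' K''))) ↔
      (integralClosure (P.O.toSubring.map (algebraMap K K')) K' =
          Algebra.adjoin (P.O.toSubring.map (algebraMap K K')) (Set.range (algebraMap k' K')) ∧
        ∀ Q : Place k K', IsOver Q P →
          integralClosure (Q.O.toSubring.map (algebraMap K' K'')) K'' =
            Algebra.adjoin (Q.O.toSubring.map (algebraMap K' K'')) (Set.range (algebraMap k'' K''))) := by
  classical
  haveI := finiteDimensional_constExt (K := K) (K' := K') h1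
  haveI := finiteDimensional_constExt (K := K') (K' := K'') h2
  haveI : FiniteDimensional K K'' := Module.Finite.trans K' K''
  haveI : FiniteDimensional k k'' := Module.Finite.trans k' k''
  haveI : IsScalarTower k K' K'' := IsScalarTower.of_algebraMap_eq fun c => by
    rw [IsScalarTower.algebraMap_apply k K K'', IsScalarTower.algebraMap_apply k K K',
      ← IsScalarTower.algebraMap_apply K K' K'']
  haveI : IsScalarTower k k'' K'' := IsScalarTower.of_algebraMap_eq fun c => by
    rw [IsScalarTower.algebraMap_apply k k' k'', ← IsScalarTower.algebraMap_apply k' k'' K'',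
      IsScalarTower.algebraMap_apply k' K' K'', ← IsScalarTower.algebraMap_apply k k' K',
      ← IsScalarTower.algebraMap_apply k K' K'']
  letI : Algebra P.O K' := ((algebraMap K K').comp P.O.subtype).toAlgebra
  haveI : IsScalarTower P.O K K' := IsScalarTower.of_algebraMap_eq fun _ => rfl
  letI : Algebra P.O K'' := ((algebraMap K K'').comp P.O.subtype).toAlgebra
  haveI : IsScalarTower P.O K K'' := IsScalarTower.of_algebraMap_eq fun _ => rfl
  obtain ⟨c₂, hb2⟩ := exists_const_basis h2
  set β₂ := Module.finBasis k' k''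
  set A' := Algebra.adjoin (P.O.toSubring.map (algebraMap K K')) (Set.range (algebraMap k' K')) with hA'
  set A'' := Algebra.adjoin (P.O.toSubring.map (algebraMap K K'')) (Set.range (algebraMap k'' K'')) with hA''
  have hkA' : ∀ c : k', algebraMap k' K' c ∈ A' := fun c => Algebra.subset_adjoin ⟨c, rfl⟩
  have hPA' : ∀ a : K, P.1 a ≤ 1 → algebraMap K K' a ∈ A' := fun a ha =>
    A'.algebraMap_mem ⟨_, mem_image_of_le P ha⟩
  -- coordinates
  have key : ∀ z : K'', z ∈ A'' ↔ ∀ j, c₂.repr z j ∈ A' := by
    intro z
    refine Iff.trans ?_ (mem_adjoin_const_iff β₂ c₂ hb2 A'.toSubring (range_subring_map A'.toSubring) hkA' z)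
    constructor
    · intro hz
      induction hz using Algebra.adjoin_induction with
      | mem w hw => exact Algebra.subset_adjoin hw
      | algebraMap r =>
        obtain ⟨_, a, ha, rfl⟩ := r
        show algebraMap K K'' a ∈ _
        rw [IsScalarTower.algebraMap_apply K K' K'']
        exact Subalgebra.algebraMap_mem _ (⟨_, algebraMap K K' a, hPA' a ha, rfl⟩ : A'.toSubring.map (algebraMap K' K''))
      | add u w _ _ hu hw => exact add_mem hu hw
      | mul u w _ _ hu hw => exact mul_mem hu hw
    · intro hz
      induction hz using Algebra.adjoin_induction with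
      | mem w hw => exact Algebra.subset_adjoin hw
      | algebraMap r =>
        obtain ⟨_, a, ha, rfl⟩ := r
        show algebraMap K' K'' a ∈ A''
        induction ha using Algebra.adjoin_induction with
        | mem w hw =>
          obtain ⟨c, rfl⟩ := hw
          rw [← IsScalarTower.algebraMap_apply k' K' K'', IsScalarTower.algebraMap_apply k' k'' K'']
          exact Algebra.subset_adjoin ⟨_, rfl⟩
        | algebraMap r =>
          obtain ⟨_, a, ha, rfl⟩ := r
          show algebraMap K' K'' (algebraMap K K' a) ∈ A''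
          rw [← IsScalarTower.algebraMap_apply K K' K'']
          exact A''.algebraMap_mem ⟨_, mem_image_of_le P ha⟩
        | add u w _ _ hu hw => rw [map_add]; exact add_mem hu hw
        | mul u w _ _ hu hw => rw [map_mul]; exact mul_mem hu hw
      | add u w _ _ hu hw => exact add_mem hu hw
      | mul u w _ _ hu hw => exact mul_mem hu hw
  have hint' : ∀ z : K', IsIntegral (P.O.toSubring.map (algebraMap K K')) z ↔
      ∀ Q : Place k K', IsOver Q P → Q.1 z ≤ 1 := fun z => by
    rw [isIntegral_image_iff P (algebraMap K K').injective, Residue.isIntegral_iff_places hK]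
  have hint'' : ∀ z : K'', IsIntegral (P.O.toSubring.map (algebraMap K K'')) z ↔
      ∀ R : Place k K'', IsOver R P → R.1 z ≤ 1 := fun z => by
    rw [isIntegral_image_iff P (algebraMap K K'').injective, Residue.isIntegral_iff_places hK]
  have hQcoord : ∀ (Q : Place k K') (z : K''),
      z ∈ Algebra.adjoin (Q.O.toSubring.map (algebraMap K' K'')) (Set.range (algebraMap k'' K'')) ↔
        ∀ j, Q.1 (c₂.repr z j) ≤ 1 := fun Q z =>
    mem_adjoin_const_iff β₂ c₂ hb2 Q.O.toSubring (range_subring_map Q.O.toSubring) (fun c => val_const_le Q c) z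
  constructor
  · intro hNS
    have hA'R : integralClosure (P.O.toSubring.map (algebraMap K K')) K' = A' := by
      refine le_antisymm (fun z hz => ?_) (adjoin_le_integralClosure P)
      have hz'' : algebraMap K' K'' z ∈ integralClosure (P.O.toSubring.map (algebraMap K K'')) K'' := by
        let ι : P.O.toSubring.map (algebraMap K K') →+* P.O.toSubring.map (algebraMap K K'') :=
          ((algebraMap K' K'').comp (P.O.toSubring.map (algebraMap K K')).subtype).codRestrict _ (by
            rintro ⟨_, a, ha, rfl⟩
            exact ⟨a, ha, IsScalarTower.algebraMap_apply K K' K'' a⟩)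
        exact IsIntegral.map_of_comp_eq ι (algebraMap K' K'') (RingHom.ext fun _ => rfl) hz
      rw [hNS] at hz''
      have hz' := (key _).1 hz''
      obtain ⟨j, hj⟩ : ∃ j, β₂.repr 1 j ≠ 0 := by
        by_contra hcon
        push Not at hcon
        exact one_ne_zero (β₂.repr.injective (Finsupp.ext fun j => by rw [hcon j, map_zero]; rfl))
      have h3 := hz' j
      rw [repr_algebraMap β₂ c₂ hb2] at h3
      have h4 := mul_mem h3 (hkA' (β₂.repr 1 j)⁻¹)
      rwa [mul_assoc, ← map_mul, mul_inv_cancel₀ hj, map_one, mul_one] at h4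
    refine ⟨hA'R, fun Q hQP => le_antisymm (fun z hz => ?_) (adjoin_le_integralClosure Q)⟩
    rw [hQcoord]
    intro j
    set N := ∑ R ∈ placesOver hK K'' P, |R.ord z|
    have hN : 0 ≤ N := Finset.sum_nonneg fun _ _ => abs_nonneg _
    obtain ⟨u, hu⟩ := exists_approx (placesOver hK K' P) (fun R => if R = Q then 1 else 0) (-N - 1)
    have huQ : Q.1 u = 1 := by
      have := hu Q ((mem_placesOver hK).2 hQP)
      rw [if_pos rfl] at this
      exact (Valuation.map_eq_of_sub_lt _ (this.trans_lt (by rw [map_one, ← exp_zero, exp_lt_exp]; omega))).trans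
        (map_one _)
    have huz : algebraMap K' K'' u * z ∈ integralClosure (P.O.toSubring.map (algebraMap K K'')) K'' := by
      rw [mem_integralClosure_iff, hint'']
      intro R hR
      obtain ⟨Q', e', he'⟩ := exists_below (K := K') R
      have hQ'P : IsOver Q' P := by
        obtain ⟨P', e₁, he₁⟩ := exists_below (K := K) Q'
        obtain ⟨e₂, he₂⟩ := hR
        have h3 : IsOverWith R P' (e₁ * e') := fun a => by
          rw [IsScalarTower.algebraMap_apply K K' K'', he', he₁, pow_mul]
        exact (IsOverWith.unique he₂ h3).1 ▸ ⟨e₁, he₁⟩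
      have hu2 := hu Q' ((mem_placesOver hK).2 hQ'P)
      rcases eq_or_ne z 0 with rfl | hz0
      · simp
      by_cases hQQ : Q' = Q
      · subst hQQ
        rw [map_mul, he', huQ, one_pow, one_mul]
        exact val_le_one_of_isIntegral Q' R (fun a ha => by rw [he']; exact pow_le_one' ha _) hz
      · rw [if_neg hQQ, sub_zero] at hu2
        rw [map_mul, he', val_eq_exp R hz0]
        refine (mul_le_mul' (pow_le_pow_left' hu2 _) le_rfl).trans ?_
        rw [← exp_nsmul, ← exp_add, ← exp_zero, exp_le_exp, nsmul_eq_mul]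
        have h1 := Finset.single_le_sum (f := fun R => |R.ord z|) (fun _ _ => abs_nonneg _) ((mem_placesOver hK).2 hR)
        have h2 : (1 : ℤ) ≤ e' := by exact_mod_cast IsOverWith.pos he'
        have h3 := neg_abs_le (R.ord z)
        have h5 : N + 1 ≤ (e' : ℤ) * (N + 1) := le_mul_of_one_le_left (by omega) h2
        have h6 : (e' : ℤ) * (-N - 1) = -((e' : ℤ) * (N + 1)) := by ring
        omega
    rw [hNS] at huz
    have h3 := (key _).1 huz j
    rw [← Algebra.smul_def, map_smul, Finsupp.smul_apply, smul_eq_mul, ← hA'R, mem_integralClosure_iff, hint'] at h3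
    have h4 := h3 Q hQP
    rwa [map_mul, huQ, one_mul] at h4
  · rintro ⟨hA'R, hQ⟩
    refine le_antisymm (fun z hz => ?_) (adjoin_le_integralClosure P)
    rw [key]
    intro j
    rw [← hA'R, mem_integralClosure_iff, hint']
    intro Q hQP
    refine (hQcoord Q z).1 ?_ j
    rw [← hQ Q hQP]
    let ι : P.O.toSubring.map (algebraMap K K'') →+* Q.O.toSubring.map (algebraMap K' K'') :=
      (P.O.toSubring.map (algebraMap K K'')).subtype.codRestrict _ (by
        rintro ⟨_, a, ha, rfl⟩
        exact ⟨algebraMap K K' a, (val_le_one_iff hQP a).2 ha, (IsScalarTower.algebraMap_apply K K' K'' a).symm⟩)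
    exact IsIntegral.map_of_comp_eq ι (RingHom.id K'') (RingHom.ext fun _ => rfl) hz

end Tower

end Groth.Agent.FunFld.ScalarExt
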