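import Groth.Agent.FunFld.ScalarExt.Basic
import Mathlib.FieldTheory.PurelyInseparable.PerfectClosure
import Mathlib.FieldTheory.Normal.Basic
import Mathlib.RingTheory.DedekindDomain.IntegralClosure
import Mathlib.RingTheory.Polynomial.ScaleRoots
import Mathlib.FieldTheory.IntermediateField.Adjoin.Algebra
import Mathlib.LinearAlgebra.TensorProduct.Basis

/-!
Generators of the integral closure of `k[x]` over the algebraic closure of the constants, and what they say
about the singular places.
-/

set_option autoImplicit false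
set_option linter.style.haveILetI false
universe u v w

open WithZero _root_.FunFld Polynomial
open scoped TensorProduct

noncomputable section

attribute [-instance] IsLocalRing.instModuleResidueFieldOfAlgebra
attribute [-instance] Algebra.instCommSemiringAdjoinSingleton Algebra.instCommRingAdjoinSingleton

namespace Groth.Agent.FunFld.ScalarExt

/-- `G` generates the integral closure of `kbar[x]` in `kbar ⊗ K`. -/
def Gens (k kbar : Type u) {K : Type v} [Field k] [Field kbar] [Algebra k kbar] [Field K] [Algebra k K] (x : K)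
    (G : Set K) : Prop :=
  ∀ w : kbar ⊗[k] K, IsIntegral (Algebra.adjoin kbar ({(1 : kbar) ⊗ₜ[k] x} : Set (kbar ⊗[k] K))) w →
    w ∈ Submodule.span kbar {v | ∃ m : ℕ, ∃ g ∈ G, v = (1 : kbar) ⊗ₜ[k] (x ^ m * g)}

section Key

variable {k : Type u} {K : Type v} [Field k] [Field K] [Algebra k K] {kbar : Type u} [Field kbar] [Algebra k kbar]

theorem isIntegral_includeRight {x c : K} (hc : IsIntegral (Algebra.adjoin k ({x} : Set K)) c) :
    IsIntegral (Algebra.adjoin kbar ({(1 : kbar) ⊗ₜ[k] x} : Set (kbar ⊗[k] K))) ((1 : kbar) ⊗ₜ[k] c) := by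
  set A := Algebra.adjoin kbar ({(1 : kbar) ⊗ₜ[k] x} : Set (kbar ⊗[k] K))
  let ir : K →ₐ[k] kbar ⊗[k] K := Algebra.TensorProduct.includeRight
  have hmem : ∀ a ∈ Algebra.adjoin k ({x} : Set K), ir a ∈ A := by
    intro a ha
    induction ha using Algebra.adjoin_induction with
    | mem w hw => rw [Set.mem_singleton_iff.1 hw]; exact Algebra.subset_adjoin rfl
    | algebraMap r =>
      rw [AlgHom.commutes, IsScalarTower.algebraMap_apply k kbar (kbar ⊗[k] K)]
      exact A.algebraMap_mem _
    | add u w _ _ hu hw => rw [map_add]; exact add_mem hu hw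
    | mul u w _ _ hu hw => rw [map_mul]; exact mul_mem hu hw
  let φ : Algebra.adjoin k ({x} : Set K) →+* A :=
    (ir.toRingHom.comp (Algebra.adjoin k ({x} : Set K)).subtype).codRestrict A fun a => hmem a a.2
  exact hc.map_of_comp_eq φ ir.toRingHom (RingHom.ext fun _ => rfl)

theorem nonsingular_of_gens [IsAlgClosed kbar] (hK : IsFunctionField k K) {x : K} (hx : Transcendental k x)
    {G : Set K} (hG : Gens k kbar x G) (P : Place k K) (hPx : P.1 x ≤ 1) (hPG : ∀ g ∈ G, P.1 g ≤ 1)
    {k' : Type u} [Field k'] [Algebra k k'] [FiniteDimensional k k'] {R : Type w} [CommRing R] [Algebra K R]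
    [Algebra k' R] [Algebra k R] [IsScalarTower k k' R] [IsScalarTower k K R]
    (h : Function.Bijective (Algebra.TensorProduct.productMap
      (IsScalarTower.toAlgHom k k' R) (IsScalarTower.toAlgHom k K R))) :
    integralClosure (P.O.toSubring.map (algebraMap K R)) R =
      Algebra.adjoin (P.O.toSubring.map (algebraMap K R)) (Set.range (algebraMap k' R)) := by
  classical
  let e := AlgEquiv.ofBijective _ h
  have he : ∀ (c : k') (a : K), e (c ⊗ₜ[k] a) = algebraMap k' R c * algebraMap K R a := fun _ _ => rfl
  have heK : ∀ a : K, e ((1 : k') ⊗ₜ[k] a) = algebraMap K R a := fun a => by rw [he, map_one, one_mul]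
  have hinj : Function.Injective (algebraMap K R) := fun a b hab => by
    rw [← heK, ← heK] at hab
    exact Algebra.TensorProduct.includeRight_injective (R := k) (A := k') (B := K)
      (algebraMap k k').injective (e.injective hab)
  refine le_antisymm (fun z hz => ?_) (adjoin_le_integralClosure P)
  set A' := Algebra.adjoin (P.O.toSubring.map (algebraMap K R)) (Set.range (algebraMap k' R)) with hA'
  letI : Algebra P.O R := ((algebraMap K R).comp P.O.subtype).toAlgebra
  haveI : IsScalarTower P.O K R := IsScalarTower.of_algebraMap_eq fun _ => rfl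
  obtain ⟨q, hq, hqz⟩ := (isIntegral_image_iff P hinj).1 hz
  set q₁ := q.map P.O.subtype with hq₁
  have hq₁m : q₁.Monic := hq.map _
  have hq₁z : eval₂ (algebraMap K R) z q₁ = 0 := by rw [hq₁, eval₂_map]; exact hqz
  have hq₁c : ∀ i, P.1 (q₁.coeff i) ≤ 1 := fun i => by rw [hq₁, coeff_map]; exact (q.coeff i).2
  set d := q₁.natDegree
  set S : Finset (Place k K) :=
    ((Finset.range d).biUnion fun i => (finite_support hK (q₁.coeff i)).toFinset).erase P
  set M := ∑ R ∈ S, ∑ i ∈ Finset.range d, (R.ord (q₁.coeff i)).natAbs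
  obtain ⟨u, hu1, hu2, hu3⟩ := exists_val_eq_one_of_finite_places hK hx hPx S
    (fun R hR => Finset.ne_of_mem_erase hR) M
  set q₂ := q₁.scaleRoots u with hq₂
  have hq₂c : ∀ i, IsIntegral (Algebra.adjoin k ({x} : Set K)) (q₂.coeff i) := by
    intro i
    refine isIntegral_of_finite_places hK hx fun R hR => ?_
    rw [hq₂, coeff_scaleRoots, map_mul, map_pow]
    rcases lt_trichotomy i d with hi | hi | hi
    · rcases eq_or_ne (q₁.coeff i) 0 with h0 | h0
      · simp [h0]
      refine (mul_le_mul' le_rfl (pow_le_of_le_one zero_le (hu2 R hR) (show d - i ≠ 0 by omega))).trans ?_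
      by_cases hRS : R ∈ S
      · refine (mul_le_mul' le_rfl (hu3 R hRS hR)).trans ?_
        rw [val_eq_exp R h0, ← exp_add]
        refine le_of_le_of_eq (exp_le_exp.2 ?_) exp_zero
        have h1 : (R.ord (q₁.coeff i)).natAbs ≤ M :=
          (Finset.single_le_sum (f := fun i => (R.ord (q₁.coeff i)).natAbs) (fun _ _ => Nat.zero_le _)
            (Finset.mem_range.2 hi)).trans
          (Finset.single_le_sum (f := fun R => ∑ i ∈ Finset.range d, (R.ord (q₁.coeff i)).natAbs)
            (fun _ _ => Nat.zero_le _) hRS)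
        omega
      · refine mul_le_one' ?_ (hu2 R hR)
        rcases eq_or_ne R P with rfl | hRP
        · exact hq₁c i
        · refine (ord_nonneg_iff R h0).1 ?_
          simp only [S, Finset.mem_erase, Finset.mem_biUnion, Finset.mem_range, Set.Finite.mem_toFinset,
            Function.mem_support, not_and, not_exists, not_not] at hRS
          exact le_of_eq (hRS hRP i hi).symm
    · rw [hi, coeff_natDegree, hq₁m.leadingCoeff, map_one, Nat.sub_self, pow_zero, mul_one]
    · rw [coeff_eq_zero_of_natDegree_lt hi, map_zero, zero_mul]; exact zero_le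
  set w := algebraMap K R u * z with hw
  have hw0 : eval₂ (algebraMap K R) w q₂ = 0 := scaleRoots_eval₂_eq_zero _ hq₁z
  -- pass to the algebraic closure
  let ι : k' →ₐ[k] kbar := IsAlgClosed.lift
  let j : R →ₐ[k] kbar ⊗[k] K := (Algebra.TensorProduct.map ι (AlgHom.id k K)).comp e.symm.toAlgHom
  have hjK : ∀ a : K, j (algebraMap K R a) = (1 : kbar) ⊗ₜ[k] a := fun a => by
    show Algebra.TensorProduct.map ι (AlgHom.id k K) (e.symm (algebraMap K R a)) = _
    rw [← heK, AlgEquiv.symm_apply_apply, Algebra.TensorProduct.map_tmul, map_one]; rfl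
  let ir : K →+* kbar ⊗[k] K := (Algebra.TensorProduct.includeRight : K →ₐ[k] kbar ⊗[k] K).toRingHom
  have hjw : eval₂ ir (j w) q₂ = 0 := by
    have h1 := congrArg j hw0
    rw [map_zero] at h1
    rw [← h1]
    show _ = j.toRingHom (eval₂ (algebraMap K R) w q₂)
    rw [hom_eval₂]
    exact eval₂_congr (RingHom.ext fun a => (hjK a).symm) rfl rfl
  set A := Algebra.adjoin kbar ({(1 : kbar) ⊗ₜ[k] x} : Set (kbar ⊗[k] K))
  have hjwi : IsIntegral A (j w) := by
    set C := integralClosure A (kbar ⊗[k] K)
    haveI : Nontrivial (kbar ⊗[k] K) :=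
      (Algebra.TensorProduct.includeRight_injective (R := k) (A := kbar) (B := K)
        (algebraMap k kbar).injective).nontrivial
    obtain ⟨q₃, hq₃, -, hq₃m⟩ := Polynomial.lifts_and_degree_eq_and_monic (f := algebraMap C (kbar ⊗[k] K))
      (p := q₂.map ir) ((Polynomial.lifts_iff_coeff_lifts _).2 fun i =>
        ⟨⟨_, isIntegral_includeRight (hq₂c i)⟩, by rw [coeff_map]; rfl⟩)
      (((monic_scaleRoots_iff u).2 hq₁m).map _)
    exact isIntegral_trans (A := C) (j w) ⟨q₃, hq₃m, by rw [← eval_map, hq₃, eval_map]; exact hjw⟩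
  -- come back
  obtain ⟨π, hπ⟩ := LinearMap.exists_leftInverse_of_injective ι.toLinearMap (LinearMap.ker_eq_bot.2 ι.injective)
  let Ψ : kbar ⊗[k] K →ₗ[k] R := e.toLinearMap ∘ₗ LinearMap.rTensor K π
  have hΨj : Ψ (j w) = w := by
    have h1 : ∀ y : k' ⊗[k] K, Ψ (Algebra.TensorProduct.map ι (AlgHom.id k K) y) = e y := fun y => by
      induction y using TensorProduct.induction_on with
      | zero => simp only [map_zero]
      | add a b ha hb => simp only [map_add, ha, hb]
      | tmul c a =>
        show e (π (ι c) ⊗ₜ[k] a) = _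
        rw [show π (ι c) = c from LinearMap.congr_fun hπ c]
    exact (h1 _).trans (e.apply_symm_apply w)
  have hmain : ∀ v ∈ Submodule.span kbar {v | ∃ m : ℕ, ∃ g ∈ G, v = (1 : kbar) ⊗ₜ[k] (x ^ m * g)},
      ∀ c : kbar, Ψ (c • v) ∈ A' := by
    intro v hv
    induction hv using Submodule.span_induction with
    | mem v hv =>
      obtain ⟨m, g, hg, rfl⟩ := hv
      intro c
      rw [TensorProduct.smul_tmul', smul_eq_mul, mul_one]
      show e (π c ⊗ₜ[k] (x ^ m * g)) ∈ A'
      rw [he]
      refine mul_mem (Algebra.subset_adjoin ⟨_, rfl⟩) (A'.algebraMap_mem ⟨_, mem_image_of_le P ?_⟩)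
      rw [map_mul, map_pow]
      exact mul_le_one' (pow_le_one' hPx _) (hPG g hg)
    | zero => intro c; rw [smul_zero, map_zero]; exact zero_mem _
    | add v v' _ _ hv hv' => intro c; rw [smul_add, map_add]; exact add_mem (hv c) (hv' c)
    | smul a v _ hv => intro c; rw [smul_smul]; exact hv _
  have hwA : w ∈ A' := by
    have h1 := hmain _ (hG _ hjwi) 1
    rwa [one_smul, hΨj] at h1
  have hu0 : u ≠ 0 := fun e0 => by rw [e0, map_zero] at hu1; exact zero_ne_one hu1
  rw [show z = algebraMap K R u⁻¹ * w by rw [hw, ← mul_assoc, ← map_mul, inv_mul_cancel₀ hu0, map_one, one_mul]]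
  refine mul_mem (A'.algebraMap_mem ⟨_, mem_image_of_le P ?_⟩) hwA
  rw [map_inv₀, hu1, inv_one]

end Key

section Finite

open scoped IntermediateField.algebraAdjoinAdjoin in
theorem finite_integralClosure_adjoin {F : Type u} {E : Type w} [Field F] [Field E] [Algebra F E] (y : E)
    [IsIntegrallyClosed (Algebra.adjoin F ({y} : Set E))] [IsNoetherianRing (Algebra.adjoin F ({y} : Set E))]
    [FiniteDimensional (IntermediateField.adjoin F ({y} : Set E)) E]
    [Algebra.IsSeparable (IntermediateField.adjoin F ({y} : Set E)) E] :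
    Module.Finite (Algebra.adjoin F ({y} : Set E)) (integralClosure (Algebra.adjoin F ({y} : Set E)) E) :=
  IsIntegralClosure.finite (Algebra.adjoin F ({y} : Set E)) (IntermediateField.adjoin F ({y} : Set E)) E _

variable {k kbar : Type u} {K : Type v} {Kbar : Type w} [Field k] [Field kbar] [Field K] [Field Kbar]
  [Algebra k kbar] [Algebra k K] [Algebra K Kbar] [Algebra kbar Kbar] [Algebra k Kbar]
  [IsScalarTower k kbar Kbar] [IsScalarTower k K Kbar] [Algebra.IsAlgebraic k kbar]

theorem exists_finite_integral
    (h : Function.Bijective (Algebra.TensorProduct.productMap (IsScalarTower.toAlgHom k kbar Kbar)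
      (IsScalarTower.toAlgHom k K Kbar))) {x : K} (hx : Transcendental k x)
    [FiniteDimensional (IntermediateField.adjoin k ({x} : Set K)) K]
    [Algebra.IsSeparable (IntermediateField.adjoin k ({x} : Set K)) K] :
    ∃ W : Finset Kbar,
      (∀ w ∈ W, IsIntegral (Algebra.adjoin kbar ({algebraMap K Kbar x} : Set Kbar)) w) ∧
      ∀ z : Kbar, IsIntegral (Algebra.adjoin kbar ({algebraMap K Kbar x} : Set Kbar)) z →
        z ∈ Submodule.span kbar {v | ∃ m : ℕ, ∃ w ∈ W, v = algebraMap K Kbar x ^ m * w} := by
  classical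
  obtain ⟨hxt, hfin, -⟩ := constExt_algebraic h hx
  haveI := hfin
  set xb := algebraMap K Kbar x
  set L := IntermediateField.adjoin k ({x} : Set K)
  set L' := IntermediateField.adjoin kbar ({xb} : Set Kbar)
  have hle : ∀ a ∈ L, algebraMap K Kbar a ∈ L' := by
    intro a ha
    induction ha using IntermediateField.adjoin_induction with
    | mem w hw => rw [Set.mem_singleton_iff.1 hw]; exact IntermediateField.mem_adjoin_simple_self kbar xb
    | algebraMap r =>
      rw [← IsScalarTower.algebraMap_apply k K Kbar, IsScalarTower.algebraMap_apply k kbar Kbar]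
      exact L'.algebraMap_mem _
    | add u w _ _ hu hw => rw [map_add]; exact add_mem hu hw
    | inv u _ hu => rw [map_inv₀]; exact inv_mem hu
    | mul u w _ _ hu hw => rw [map_mul]; exact mul_mem hu hw
  let φ : L →+* L' := ((algebraMap K Kbar).comp L.val.toRingHom).codRestrict L' fun a => hle a a.2
  have hsepK : ∀ a : K, IsSeparable L' (algebraMap K Kbar a) := by
    intro a
    have h1 : (minpoly L a).Separable := Algebra.IsSeparable.isSeparable L a
    refine (h1.map (f := φ)).of_dvd (minpoly.dvd L' _ ?_)
    rw [aeval_def, eval₂_map, show (algebraMap L' Kbar).comp φ = (algebraMap K Kbar).comp (algebraMap L K) from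
      RingHom.ext fun _ => rfl, ← hom_eval₂, ← aeval_def, minpoly.aeval, map_zero]
  haveI : Algebra.IsSeparable L' Kbar := by
    set E := IntermediateField.adjoin L' (Set.range (algebraMap K Kbar))
    have htop : E = ⊤ := by
      rw [eq_top_iff]
      intro z _
      obtain ⟨w, rfl⟩ := h.2 z
      induction w using TensorProduct.induction_on with
      | zero => rw [map_zero]; exact zero_mem _
      | add a b ha hb => rw [map_add]; exact add_mem (ha trivial) (hb trivial)
      | tmul c a =>
        exact mul_mem (E.algebraMap_mem (algebraMap kbar L' c)) (IntermediateField.subset_adjoin _ _ ⟨a, rfl⟩)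
    haveI : Algebra.IsSeparable L' E :=
      (IntermediateField.isSeparable_adjoin_iff_isSeparable _ _).2 (by rintro _ ⟨a, rfl⟩; exact hsepK a)
    exact Algebra.IsSeparable.of_algHom L' E ((IntermediateField.equivOfEq htop).trans IntermediateField.topEquiv).symm.toAlgHom
  set A := Algebra.adjoin kbar ({xb} : Set Kbar)
  let eA : kbar[X] ≃ₐ[kbar] A :=
    (AlgEquiv.ofInjective (aeval xb) (transcendental_iff_injective.1 hxt)).trans
      (Subalgebra.equivOfEq _ _ (Algebra.adjoin_singleton_eq_range_aeval kbar xb).symm)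
  haveI : IsIntegrallyClosed A := IsIntegrallyClosed.of_equiv eA.toRingEquiv
  haveI : IsNoetherianRing A := isNoetherianRing_of_ringEquiv kbar[X] eA.toRingEquiv
  haveI hfinC : Module.Finite A (integralClosure A Kbar) := finite_integralClosure_adjoin xb
  obtain ⟨W₀, hW₀⟩ := hfinC.fg_top
  refine ⟨W₀.image Subtype.val, fun w hw => ?_, fun z hz => ?_⟩
  · obtain ⟨w₀, -, rfl⟩ := Finset.mem_image.1 hw; exact w₀.2
  · have hz' : (⟨z, hz⟩ : integralClosure A Kbar) ∈ Submodule.span A (W₀ : Set (integralClosure A Kbar)) :=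
      hW₀ ▸ Submodule.mem_top
    suffices h' : ∀ r ∈ Submodule.span A (W₀ : Set (integralClosure A Kbar)), ∀ m : ℕ,
        xb ^ m * (r : Kbar) ∈ Submodule.span kbar {v | ∃ m : ℕ, ∃ w ∈ W₀.image Subtype.val, v = xb ^ m * w} by
      simpa using h' _ hz' 0
    intro r hr
    induction hr using Submodule.span_induction with
    | mem v hv => exact fun m => Submodule.subset_span ⟨m, v, Finset.mem_image_of_mem _ hv, rfl⟩
    | zero => intro m; simp
    | add u v _ _ hu hv => intro m; rw [Subalgebra.coe_add, mul_add]; exact add_mem (hu m) (hv m)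
    | smul a v _ hv =>
      intro m
      obtain ⟨p, hp⟩ := (Algebra.adjoin_singleton_eq_range_aeval kbar xb).le a.2
      rw [Subalgebra.coe_smul, Algebra.smul_def, show algebraMap A Kbar a = aeval xb p from hp.symm,
        aeval_eq_sum_range, Finset.sum_mul, Finset.mul_sum]
      refine sum_mem fun i _ => ?_
      rw [smul_mul_assoc, mul_smul_comm, ← mul_assoc, ← pow_add]
      exact Submodule.smul_mem _ _ (hv (m + i))

end Finite

section Descent

variable {k kbar : Type u} {K : Type v} [Field k] [Field kbar] [Field K] [Algebra k kbar] [Algebra k K]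
  [IsAlgClosed kbar] [Algebra.IsAlgebraic k kbar]

theorem mem_perfectClosure_of_fixed {c : kbar} (hc : ∀ σ : kbar ≃ₐ[k] kbar, σ c = c) :
    c ∈ perfectClosure k kbar := by
  classical
  haveI : IsAlgClosure k kbar := ⟨inferInstance, inferInstance⟩
  haveI : Normal k kbar := IsAlgClosure.normal k kbar
  rw [mem_perfectClosure_iff_natSepDegree_eq_one, natSepDegree_eq_of_isAlgClosed (E := kbar)]
  have halg : IsAlgebraic k c := Algebra.IsAlgebraic.isAlgebraic c
  have hne : minpoly k c ≠ 0 := minpoly.ne_zero halg.isIntegral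
  rw [Finset.card_eq_one]
  refine ⟨c, Finset.eq_singleton_iff_unique_mem.2 ⟨?_, fun y hy => ?_⟩⟩
  · rw [Multiset.mem_toFinset, mem_aroots]; exact ⟨hne, minpoly.aeval k c⟩
  · rw [Multiset.mem_toFinset, mem_aroots] at hy
    obtain ⟨σ, hσ⟩ := minpoly.exists_algEquiv_of_root' halg hy.2
    rw [← hσ, hc]

/-- Galois descent: integral elements are combinations of integral elements with purely inseparable coordinates. -/
theorem descent (x : K) {ι : Type*} (β : Module.Basis ι k K) (w : kbar ⊗[k] K)
    (hw : IsIntegral (Algebra.adjoin kbar ({(1 : kbar) ⊗ₜ[k] x} : Set (kbar ⊗[k] K))) w) :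
    w ∈ Submodule.span kbar {v | IsIntegral (Algebra.adjoin kbar ({(1 : kbar) ⊗ₜ[k] x} : Set (kbar ⊗[k] K))) v ∧
      ∀ i, (Algebra.TensorProduct.basis kbar β).repr v i ∈ perfectClosure k kbar} := by
  classical
  set A := Algebra.adjoin kbar ({(1 : kbar) ⊗ₜ[k] x} : Set (kbar ⊗[k] K)) with hA
  set B := Algebra.TensorProduct.basis kbar β
  let V : Submodule kbar (kbar ⊗[k] K) :=
    { carrier := {v | IsIntegral A v}
      add_mem' := fun ha hb => ha.add hb
      zero_mem' := isIntegral_zero
      smul_mem' := fun c v hv => by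
        show IsIntegral A (c • v)
        rw [Algebra.smul_def]
        exact (isIntegral_algebraMap (x := (⟨_, A.algebraMap_mem c⟩ : A))).mul hv }
  set M := Submodule.span kbar {v | IsIntegral A v ∧ ∀ i, B.repr v i ∈ perfectClosure k kbar}
  have hMV : M ≤ V := Submodule.span_le.2 fun v hv => hv.1
  -- a complement spanned by basis vectors
  obtain ⟨b, hb, hbspan, hbli⟩ := exists_linearIndependent kbar (Set.range (M.mkQ ∘ B))
  choose idx hidx using fun y : b => hb y.2
  set J : Set ι := Set.range idx
  have hidxinj : Function.Injective idx := fun y y' h => Subtype.ext (by rw [← hidx y, ← hidx y', h])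
  have hsup : M ⊔ Submodule.span kbar (B '' J) = ⊤ := by
    have h1 : (Submodule.span kbar (B '' J)).map M.mkQ = ⊤ := by
      rw [Submodule.map_span, eq_top_iff, ← Submodule.range_mkQ M, LinearMap.range_eq_map, ← B.span_eq,
        Submodule.map_span, ← Set.range_comp, ← hbspan]
      refine Submodule.span_mono ?_
      intro y hy
      exact ⟨B (idx ⟨y, hy⟩), ⟨_, ⟨_, rfl⟩, rfl⟩, hidx ⟨y, hy⟩⟩
    rw [eq_top_iff]
    intro v _
    have h2 : M.mkQ v ∈ (Submodule.span kbar (B '' J)).map M.mkQ := h1 ▸ Submodule.mem_top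
    obtain ⟨r, hr, hrv⟩ := h2
    rw [show v = (v - r) + r by abel]
    refine Submodule.add_mem_sup ?_ hr
    exact (Submodule.Quotient.eq M).1 hrv.symm
  have hdisj : ∀ r ∈ Submodule.span kbar (B '' J), r ∈ M → r = 0 := by
    intro r hr hrM
    rw [← Set.range_comp, Finsupp.mem_span_range_iff_exists_finsupp] at hr
    obtain ⟨c, rfl⟩ := hr
    have h1 : (c.sum fun y a => a • ((y : b) : (kbar ⊗[k] K) ⧸ M)) = 0 := by
      rw [← (Submodule.Quotient.mk_eq_zero M).2 hrM, ← Submodule.mkQ_apply, map_finsuppSum]
      refine Finsupp.sum_congr fun y _ => ?_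
      rw [map_smul, ← hidx y]; rfl
    rw [linearIndependent_iff.1 hbli c (by rw [Finsupp.linearCombination_apply]; exact h1), Finsupp.sum_zero_index]
  let σT : (kbar ≃ₐ[k] kbar) → (kbar ⊗[k] K →ₐ[k] kbar ⊗[k] K) := fun σ =>
    Algebra.TensorProduct.map σ.toAlgHom (AlgHom.id k K)
  have hσrepr : ∀ σ v i, B.repr (σT σ v) i = σ (B.repr v i) := by
    intro σ v i
    induction v using TensorProduct.induction_on with
    | zero => simp
    | add a c ha hc => simp only [map_add, Finsupp.add_apply, ha, hc]
    | tmul c a =>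
      simp [σT, B, Algebra.TensorProduct.basis_repr_tmul]
  have hσint : ∀ σ v, IsIntegral A v → IsIntegral A (σT σ v) := by
    intro σ v hv
    have hmem : ∀ a ∈ A, σT σ a ∈ A := by
      intro a ha
      induction ha using Algebra.adjoin_induction with
      | mem y hy =>
        rw [Set.mem_singleton_iff.1 hy, Algebra.TensorProduct.map_tmul, map_one]
        exact Algebra.subset_adjoin rfl
      | algebraMap c =>
        rw [Algebra.TensorProduct.algebraMap_apply, Algebra.TensorProduct.map_tmul, map_one]
        exact A.algebraMap_mem (σ c)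
      | add u w _ _ hu hw => rw [map_add]; exact add_mem hu hw
      | mul u w _ _ hu hw => rw [map_mul]; exact mul_mem hu hw
    let φ : A →+* A := ((σT σ).toRingHom.comp A.subtype).codRestrict A fun a => hmem a a.2
    exact hv.map_of_comp_eq φ (σT σ).toRingHom (RingHom.ext fun _ => rfl)
  have hmin : ∀ n, ∀ r ∈ Submodule.span kbar (B '' J), IsIntegral A r → (B.repr r).support.card = n → r = 0 := by
    intro n
    induction n using Nat.strong_induction_on with
    | _ n ih =>
      intro r hr hri hn
      by_contra hr0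
      obtain ⟨i0, hi0⟩ : ∃ i, B.repr r i ≠ 0 := by
        by_contra hcon
        push Not at hcon
        exact hr0 (B.repr.injective (Finsupp.ext fun i => by rw [hcon i, map_zero]; rfl))
      set r' := (B.repr r i0)⁻¹ • r
      have hr'J : r' ∈ Submodule.span kbar (B '' J) := Submodule.smul_mem _ _ hr
      have hr'i : IsIntegral A r' := V.smul_mem _ hri
      have hr'0 : B.repr r' i0 = 1 := by simp [r', hi0]
      have hsupp : (B.repr r').support = (B.repr r).support := by
        rw [map_smul, Finsupp.support_smul_eq (inv_ne_zero hi0)]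
      have hfix : ∀ i, B.repr r' i ∈ perfectClosure k kbar := fun i => mem_perfectClosure_of_fixed fun σ => by
        set D := σT σ r' - r' with hD
        have hsub : (B.repr D).support ⊆ (B.repr r).support.erase i0 := by
          intro l hl
          rw [Finsupp.mem_support_iff, hD, map_sub, Finsupp.sub_apply, hσrepr] at hl
          rw [Finset.mem_erase, ← hsupp, Finsupp.mem_support_iff]
          refine ⟨fun e => hl ?_, fun e => hl ?_⟩
          · rw [e, hr'0, map_one, sub_self]
          · rw [e, map_zero, sub_self]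
        have hlt : (B.repr D).support.card < n := by
          refine (Finset.card_le_card hsub).trans_lt ?_
          rw [← hn]
          exact Finset.card_erase_lt_of_mem (Finsupp.mem_support_iff.2 hi0)
        have hDJ : D ∈ Submodule.span kbar (B '' J) := by
          rw [B.mem_span_image]
          intro l hl
          have h1 := hsub (Finset.mem_coe.1 hl)
          rw [Finset.mem_erase, ← hsupp] at h1
          exact (B.mem_span_image.1 hr'J) (Finset.mem_coe.2 h1.2)
        have h0 := ih _ hlt D hDJ ((hσint σ r' hr'i).sub hr'i) rfl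
        have h2 : B.repr D i = 0 := by rw [h0, map_zero]; rfl
        rw [hD, map_sub, Finsupp.sub_apply, hσrepr, sub_eq_zero] at h2
        exact h2
      have h3 := hdisj r' hr'J (Submodule.subset_span ⟨hr'i, hfix⟩)
      rw [h3, map_zero] at hr'0
      exact zero_ne_one hr'0
  obtain ⟨m, hm, r, hr, rfl⟩ := Submodule.mem_sup.1 (hsup.ge (Submodule.mem_top : w ∈ ⊤))
  have hri : IsIntegral A r := by
    have := V.sub_mem (show m + r ∈ V from hw) (hMV hm)
    rwa [add_sub_cancel_left] at this
  rw [hmin _ r hr hri rfl, add_zero]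
  exact hm

end Descent

end Groth.Agent.FunFld.ScalarExt
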