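import Groth.Agent.FunFld.ScalarExt.Global

/-! Finitely many singular places; a purely inseparable extension without singular places. -/

set_option autoImplicit false
set_option linter.style.haveILetI false
universe u v w

open WithZero _root_.FunFld Polynomial
open scoped TensorProduct

noncomputable section

attribute [-instance] IsLocalRing.instModuleResidueFieldOfAlgebra
attribute [-instance] Algebra.instCommSemiringAdjoinSingleton Algebra.instCommRingAdjoinSingleton

namespace Groth.Agent.FunFld.ScalarExt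

variable {k : Type u} {K : Type v} [Field k] [Field K] [Algebra k K]

theorem exists_integral_generators (hK : IsFunctionField k K) (hg : IsGeometric k K) {kbar : Type u} [Field kbar]
    [Algebra k kbar] [Algebra.IsAlgebraic k kbar] {x : K} (hx : Transcendental k x)
    [Algebra.IsSeparable (IntermediateField.adjoin k ({x} : Set K)) K] :
    ∃ W : Finset (kbar ⊗[k] K),
      (∀ w ∈ W, IsIntegral (Algebra.adjoin kbar ({(1 : kbar) ⊗ₜ[k] x} : Set (kbar ⊗[k] K))) w) ∧
      ∀ z, IsIntegral (Algebra.adjoin kbar ({(1 : kbar) ⊗ₜ[k] x} : Set (kbar ⊗[k] K))) z →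
        z ∈ Submodule.span kbar {v | ∃ m : ℕ, ∃ w ∈ W, v = ((1 : kbar) ⊗ₜ[k] x) ^ m * w} := by
  classical
  haveI := finite_adjoin hK hx
  letI iF : Field (kbar ⊗[k] K) := (isField_tensor_algebraic (k := k) (K := K) (kbar := kbar) hg).toField
  letI : Algebra K (kbar ⊗[k] K) :=
    (Algebra.TensorProduct.includeRight : K →ₐ[k] kbar ⊗[k] K).toRingHom.toAlgebra
  haveI : IsScalarTower k K (kbar ⊗[k] K) := IsScalarTower.of_algebraMap_eq fun c =>
    ((Algebra.TensorProduct.includeRight : K →ₐ[k] kbar ⊗[k] K).commutes c).symm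
  haveI : IsScalarTower k kbar (kbar ⊗[k] K) := IsScalarTower.of_algebraMap_eq fun _ => rfl
  have hid : ∀ u : kbar ⊗[k] K, Algebra.TensorProduct.productMap (IsScalarTower.toAlgHom k kbar (kbar ⊗[k] K))
      (IsScalarTower.toAlgHom k K (kbar ⊗[k] K)) u = u := fun u => by
    induction u using TensorProduct.induction_on with
    | zero => exact map_zero _
    | add a c ha hc => rw [map_add, ha, hc]
    | tmul c a =>
      show (c ⊗ₜ[k] (1 : K)) * ((1 : kbar) ⊗ₜ[k] a) = _
      rw [Algebra.TensorProduct.tmul_mul_tmul, mul_one, one_mul]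
  exact exists_finite_integral (k := k) (K := K) (kbar := kbar) (Kbar := kbar ⊗[k] K)
    ⟨fun a c e => by rwa [hid, hid] at e, fun a => ⟨a, hid a⟩⟩ hx

theorem exists_gens (hK : IsFunctionField k K) (hg : IsGeometric k K) {kbar : Type u} [Field kbar]
    [Algebra k kbar] [Algebra.IsAlgebraic k kbar] {x : K} (hx : Transcendental k x)
    [Algebra.IsSeparable (IntermediateField.adjoin k ({x} : Set K)) K] :
    ∃ G : Finset K, Gens k kbar x (G : Set K) := by
  classical
  obtain ⟨W, -, hW⟩ := exists_integral_generators (kbar := kbar) hK hg hx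
  choose S hS using fun w : kbar ⊗[k] K => TensorProduct.exists_finset w
  refine ⟨W.biUnion fun w => (S w).image Prod.snd, fun z hz => ?_⟩
  refine Submodule.span_le.2 ?_ (hW z hz)
  rintro _ ⟨m, w, hw, rfl⟩
  rw [hS w, Finset.mul_sum]
  refine sum_mem fun ca hca => ?_
  rw [Algebra.TensorProduct.tmul_pow, one_pow, Algebra.TensorProduct.tmul_mul_tmul, one_mul,
    show ca.1 ⊗ₜ[k] (x ^ m * ca.2) = ca.1 • ((1 : kbar) ⊗ₜ[k] (x ^ m * ca.2)) by
      rw [TensorProduct.smul_tmul', smul_eq_mul, mul_one]]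
  exact Submodule.smul_mem _ _ (Submodule.subset_span ⟨m, ca.2,
    Finset.mem_coe.2 (Finset.mem_biUnion.2 ⟨w, hw, Finset.mem_image_of_mem _ hca⟩), rfl⟩)

theorem finite_singular (hK : IsFunctionField k K) (hg : IsGeometric k K) :
    {P : Place k K | ∃ (k' : Type u) (_ : Field k') (_ : Algebra k k'), FiniteDimensional k k' ∧
      integralClosure (P.O.toSubring.map (Algebra.TensorProduct.includeRight : K →ₐ[k] k' ⊗[k] K).toRingHom) (k' ⊗[k] K) ≠
        Algebra.adjoin (P.O.toSubring.map (Algebra.TensorProduct.includeRight : K →ₐ[k] k' ⊗[k] K).toRingHom)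
          (Set.range (Algebra.TensorProduct.includeLeftRingHom : k' →+* k' ⊗[k] K))}.Finite := by
  classical
  obtain ⟨x, hx, hsep⟩ := exists_separating hK hg
  haveI := hsep
  obtain ⟨G, hG⟩ := exists_gens (kbar := AlgebraicClosure k) hK hg hx
  refine ((finite_support hK x).union ((G.finite_toSet).biUnion fun g _ => finite_support hK g)).subset ?_
  rintro P ⟨k', _, _, hfin, hne⟩
  by_contra hP
  simp only [Set.mem_union, Set.mem_iUnion, Function.mem_support, exists_prop, not_or, not_exists, not_and, not_not] at hP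
  refine hne ?_
  letI : Algebra K (k' ⊗[k] K) :=
    (Algebra.TensorProduct.includeRight : K →ₐ[k] k' ⊗[k] K).toRingHom.toAlgebra
  haveI : IsScalarTower k K (k' ⊗[k] K) := IsScalarTower.of_algebraMap_eq fun c =>
    ((Algebra.TensorProduct.includeRight : K →ₐ[k] k' ⊗[k] K).commutes c).symm
  haveI : IsScalarTower k k' (k' ⊗[k] K) := IsScalarTower.of_algebraMap_eq fun _ => rfl
  have hid : ∀ u : k' ⊗[k] K, Algebra.TensorProduct.productMap (IsScalarTower.toAlgHom k k' (k' ⊗[k] K))
      (IsScalarTower.toAlgHom k K (k' ⊗[k] K)) u = u := fun u => by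
    induction u using TensorProduct.induction_on with
    | zero => exact map_zero _
    | add a c ha hc => rw [map_add, ha, hc]
    | tmul c a =>
      show (c ⊗ₜ[k] (1 : K)) * ((1 : k') ⊗ₜ[k] a) = _
      rw [Algebra.TensorProduct.tmul_mul_tmul, mul_one, one_mul]
  have hx0 : x ≠ 0 := fun e => hx (e ▸ isAlgebraic_zero)
  refine nonsingular_of_gens hK hx hG P ((ord_nonneg_iff P hx0).1 hP.1.ge) (fun g hgG => ?_)
    ⟨fun a c e => by rwa [hid, hid] at e, fun a => ⟨a, hid a⟩⟩
  rcases eq_or_ne g 0 with rfl | hg0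
  · simp
  · exact (ord_nonneg_iff P hg0).1 (hP.2 g (Finset.mem_coe.1 hgG)).ge

theorem exists_fixed_generators (hK : IsFunctionField k K) (hg : IsGeometric k K) {kbar : Type u} [Field kbar]
    [Algebra k kbar] [IsAlgClosed kbar] [Algebra.IsAlgebraic k kbar] {x : K} (hx : Transcendental k x)
    [Algebra.IsSeparable (IntermediateField.adjoin k ({x} : Set K)) K] :
    ∃ C : Finset kbar, (∀ c ∈ C, c ∈ perfectClosure k kbar) ∧
      ∀ E : IntermediateField k kbar, (C : Set kbar) ⊆ E → ∃ V : Finset (E ⊗[k] K),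
        (∀ v ∈ V, IsIntegral (Algebra.adjoin kbar ({(1 : kbar) ⊗ₜ[k] x} : Set (kbar ⊗[k] K)))
          (Algebra.TensorProduct.map E.val (AlgHom.id k K) v)) ∧
        ∀ z, IsIntegral (Algebra.adjoin kbar ({(1 : kbar) ⊗ₜ[k] x} : Set (kbar ⊗[k] K))) z →
          z ∈ Submodule.span kbar {v | ∃ m : ℕ, ∃ w ∈ V,
            v = ((1 : kbar) ⊗ₜ[k] x) ^ m * Algebra.TensorProduct.map E.val (AlgHom.id k K) w} := by
  classical
  obtain ⟨W, hWi, hW⟩ := exists_integral_generators (kbar := kbar) hK hg hx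
  set β := Module.Basis.ofVectorSpace k K
  set B := Algebra.TensorProduct.basis kbar β
  choose T hT hwT using fun w : W => Submodule.mem_span_finite_of_mem_span (descent x β w.1 (hWi w.1 w.2))
  set U := Finset.univ.biUnion T
  have hU : ∀ v ∈ U, IsIntegral (Algebra.adjoin kbar ({(1 : kbar) ⊗ₜ[k] x} : Set (kbar ⊗[k] K))) v ∧
      ∀ i, B.repr v i ∈ perfectClosure k kbar := fun v hv => by
    obtain ⟨w, -, hvw⟩ := Finset.mem_biUnion.1 hv
    exact hT w (Finset.mem_coe.2 hvw)
  refine ⟨U.biUnion fun v => (B.repr v).support.image (B.repr v), fun c hc => ?_, fun E hE => ?_⟩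
  · obtain ⟨v, hv, hc⟩ := Finset.mem_biUnion.1 hc
    obtain ⟨i, -, rfl⟩ := Finset.mem_image.1 hc
    exact (hU v hv).2 i
  set J := Algebra.TensorProduct.map E.val (AlgHom.id k K)
  have hpre : ∀ v : U, ∃ p : E ⊗[k] K, J p = v.1 := by
    intro v
    have hmem : ∀ i ∈ (B.repr v.1).support, B.repr v.1 i ∈ E := fun i hi =>
      hE (Finset.mem_coe.2 (Finset.mem_biUnion.2 ⟨v.1, v.2, Finset.mem_image_of_mem _ hi⟩))
    refine ⟨∑ i ∈ (B.repr v.1).support.attach, (⟨_, hmem i.1 i.2⟩ : E) ⊗ₜ[k] β i.1, ?_⟩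
    conv_rhs => rw [← B.linearCombination_repr v.1, Finsupp.linearCombination_apply, Finsupp.sum, ← Finset.sum_attach]
    rw [map_sum]
    refine Finset.sum_congr rfl fun i _ => ?_
    rw [Algebra.TensorProduct.basis_apply, TensorProduct.smul_tmul', smul_eq_mul, mul_one]
    rfl
  choose p hp using hpre
  refine ⟨Finset.univ.image p, fun v hv => ?_, fun z hz => ?_⟩
  · obtain ⟨u, -, rfl⟩ := Finset.mem_image.1 hv
    rw [hp]; exact (hU u.1 u.2).1
  · refine Submodule.span_le.2 ?_ (hW z hz)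
    rintro _ ⟨m, w, hw, rfl⟩
    have h1 : w ∈ Submodule.span kbar (T ⟨w, hw⟩ : Set (kbar ⊗[k] K)) := hwT ⟨w, hw⟩
    have h2 := Submodule.mem_map_of_mem (f := LinearMap.mulLeft kbar (((1 : kbar) ⊗ₜ[k] x) ^ m)) h1
    rw [Submodule.map_span] at h2
    refine (Submodule.span_le.2 ?_) h2
    rintro _ ⟨v, hv, rfl⟩
    have hvU : v ∈ U := Finset.mem_biUnion.2 ⟨⟨w, hw⟩, Finset.mem_univ _, Finset.mem_coe.1 hv⟩
    exact Submodule.subset_span ⟨m, p ⟨v, hvU⟩, Finset.mem_image_of_mem _ (Finset.mem_univ _), by rw [hp]; rfl⟩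

theorem isIntegral_adjoin_map {F : Type*} [Field F] {T₁ T₂ : Type*} [CommRing T₁] [CommRing T₂] [Algebra F T₁]
    [Algebra F T₂] (f : T₁ →ₐ[F] T₂) {y w : T₁} (hw : IsIntegral (Algebra.adjoin F ({y} : Set T₁)) w) :
    IsIntegral (Algebra.adjoin F ({f y} : Set T₂)) (f w) := by
  have hmem : ∀ a ∈ Algebra.adjoin F ({y} : Set T₁), f a ∈ Algebra.adjoin F ({f y} : Set T₂) := fun a ha => by
    induction ha using Algebra.adjoin_induction with
    | mem z hz => rw [Set.mem_singleton_iff.1 hz]; exact Algebra.subset_adjoin rfl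
    | algebraMap c => rw [AlgHom.commutes]; exact Subalgebra.algebraMap_mem _ c
    | add u z _ _ hu hz => rw [map_add]; exact add_mem hu hz
    | mul u z _ _ hu hz => rw [map_mul]; exact mul_mem hu hz
  let φ : Algebra.adjoin F ({y} : Set T₁) →+* Algebra.adjoin F ({f y} : Set T₂) :=
    (f.toRingHom.comp (Algebra.adjoin F ({y} : Set T₁)).subtype).codRestrict _ fun a => hmem a a.2
  exact hw.map_of_comp_eq φ f.toRingHom (RingHom.ext fun _ => rfl)

theorem isIntegral_adjoin_descend {F₀ F : Type*} [Field F₀] [Field F] [Algebra F₀ F] [Algebra.IsAlgebraic F₀ F]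
    {T : Type*} [CommRing T] [Algebra F T] [Algebra F₀ T] [IsScalarTower F₀ F T] {y w : T}
    (hw : IsIntegral (Algebra.adjoin F ({y} : Set T)) w) : IsIntegral (Algebra.adjoin F₀ ({y} : Set T)) w := by
  have hmem : ∀ a ∈ Algebra.adjoin F ({y} : Set T), a ∈ integralClosure (Algebra.adjoin F₀ ({y} : Set T)) T :=
    fun a ha => by
    induction ha using Algebra.adjoin_induction with
    | mem z hz =>
      rw [Set.mem_singleton_iff.1 hz]
      exact Subalgebra.algebraMap_mem _ (⟨y, Algebra.self_mem_adjoin_singleton F₀ y⟩ : Algebra.adjoin F₀ ({y} : Set T))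
    | algebraMap c =>
      exact IsIntegral.map_of_comp_eq (algebraMap F₀ (Algebra.adjoin F₀ ({y} : Set T))) (algebraMap F T)
        (RingHom.ext fun a => IsScalarTower.algebraMap_apply F₀ F T a) (Algebra.IsIntegral.isIntegral (R := F₀) c)
    | add u z _ _ hu hz => exact add_mem hu hz
    | mul u z _ _ hu hz => exact mul_mem hu hz
  let φ : Algebra.adjoin F ({y} : Set T) →+* integralClosure (Algebra.adjoin F₀ ({y} : Set T)) T :=
    (Algebra.adjoin F ({y} : Set T)).subtype.codRestrict _ fun a => hmem a a.2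
  exact isIntegral_trans (A := integralClosure (Algebra.adjoin F₀ ({y} : Set T)) T) w
    (hw.map_of_comp_eq φ (RingHom.id T) (RingHom.ext fun _ => rfl))

theorem val_le_one_of_integral_tensor {F : Type u} [Field F] {K' : Type v} [Field K'] [Algebra F K'] {kbar : Type u}
    [Field kbar] [Algebra F kbar] [Algebra.IsAlgebraic F kbar] (Q : Place F K') {x' g : K'} (hQx : Q.1 x' ≤ 1)
    (hg : IsIntegral (Algebra.adjoin kbar ({(1 : kbar) ⊗ₜ[F] x'} : Set (kbar ⊗[F] K'))) ((1 : kbar) ⊗ₜ[F] g)) :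
    Q.1 g ≤ 1 := by
  let ir : K' →ₐ[F] kbar ⊗[F] K' := Algebra.TensorProduct.includeRight
  have h2 : IsIntegral (Algebra.adjoin F ({ir x'} : Set (kbar ⊗[F] K'))) (ir g) :=
    isIntegral_adjoin_descend (F₀ := F) hg
  have hinj : Function.Injective ir :=
    Algebra.TensorProduct.includeRight_injective (algebraMap F kbar).injective
  set A₀ := Algebra.adjoin F ({x'} : Set K')
  have hA : Algebra.adjoin F ({ir x'} : Set (kbar ⊗[F] K')) = A₀.map ir := by
    rw [AlgHom.map_adjoin, Set.image_singleton]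
  let ρ : A₀ ≃ₐ[F] Algebra.adjoin F ({ir x'} : Set (kbar ⊗[F] K')) :=
    (Subalgebra.equivMapOfInjective A₀ ir hinj).trans (Subalgebra.equivOfEq _ _ hA.symm)
  letI : Algebra A₀ (kbar ⊗[F] K') := (ir.toRingHom.comp A₀.subtype).toAlgebra
  have h3 : IsIntegral A₀ (ir g) := h2.map_of_comp_eq ρ.symm.toAlgHom.toRingHom (RingHom.id (kbar ⊗[F] K'))
    (RingHom.ext fun a => by
      show ir ((ρ.symm a : A₀) : K') = (a : kbar ⊗[F] K')
      exact congrArg Subtype.val (ρ.apply_symm_apply a))
  let ir' : K' →ₐ[A₀] kbar ⊗[F] K' := { ir.toRingHom with commutes' := fun _ => rfl }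
  have h4 : IsIntegral A₀ g := (isIntegral_algHom_iff ir' hinj).1 h3
  have hmem : ∀ a ∈ A₀, a ∈ Q.O := by
    intro a ha
    induction ha using Algebra.adjoin_induction with
    | mem w hw => rw [Set.mem_singleton_iff.1 hw]; exact hQx
    | algebraMap c => exact Q.2.1 c
    | add u w _ _ hu hw => exact add_mem hu hw
    | mul u w _ _ hu hw => exact mul_mem hu hw
  let φQ : A₀ →+* Q.O := A₀.subtype.codRestrict Q.O fun a => hmem a a.2
  have h5 : IsIntegral Q.O g := h4.map_of_comp_eq φQ (RingHom.id K') (RingHom.ext fun _ => rfl)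
  obtain ⟨c, hc⟩ := IsIntegrallyClosed.isIntegral_iff.1 h5
  rw [← hc]
  exact c.2

/-- Transport of the generators to a model of `E ⊗ K`. -/
theorem nonsingular_model (hK : IsFunctionField k K) (hg : IsGeometric k K) {kbar : Type u} [Field kbar]
    [Algebra k kbar] [IsAlgClosed kbar] [Algebra.IsAlgebraic k kbar] {x : K} (hx : Transcendental k x)
    (E : IntermediateField k kbar) [FiniteDimensional k E] (V : Finset (E ⊗[k] K))
    (hVi : ∀ v ∈ V, IsIntegral (Algebra.adjoin kbar ({(1 : kbar) ⊗ₜ[k] x} : Set (kbar ⊗[k] K)))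
      (Algebra.TensorProduct.map E.val (AlgHom.id k K) v))
    (hV : ∀ z, IsIntegral (Algebra.adjoin kbar ({(1 : kbar) ⊗ₜ[k] x} : Set (kbar ⊗[k] K))) z →
      z ∈ Submodule.span kbar {v | ∃ m : ℕ, ∃ w ∈ V,
        v = ((1 : kbar) ⊗ₜ[k] x) ^ m * Algebra.TensorProduct.map E.val (AlgHom.id k K) w})
    {K' : Type v} [Field K'] [Algebra K K'] [Algebra E K'] [Algebra k K'] [IsScalarTower k E K'] [IsScalarTower k K K']
    (h : Function.Bijective (Algebra.TensorProduct.productMap
      (IsScalarTower.toAlgHom k E K') (IsScalarTower.toAlgHom k K K')))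
    (Q : Place E K') (hQx : Q.1 (algebraMap K K' x) ≤ 1)
    {k'' : Type u} [Field k''] [Algebra E k''] [FiniteDimensional E k''] {R : Type w} [CommRing R] [Algebra K' R]
    [Algebra k'' R] [Algebra E R] [IsScalarTower E k'' R] [IsScalarTower E K' R]
    (hR : Function.Bijective (Algebra.TensorProduct.productMap
      (IsScalarTower.toAlgHom E k'' R) (IsScalarTower.toAlgHom E K' R))) :
    integralClosure (Q.O.toSubring.map (algebraMap K' R)) R =
      Algebra.adjoin (Q.O.toSubring.map (algebraMap K' R)) (Set.range (algebraMap k'' R)) := by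
  classical
  haveI : Algebra.IsAlgebraic E kbar := Algebra.IsAlgebraic.tower_top (K := k) E
  obtain ⟨hK', -⟩ := constExt (k := k) (k' := E) (K := K) (K' := K') h hK hg
  set x' := algebraMap K K' x
  have hx' : Transcendental E x' := fun halg =>
    ((transcendental_algebraMap_iff (algebraMap K K').injective).2 hx)
      (isIntegral_trans x' halg.isIntegral).isAlgebraic
  let f : E ⊗[k] K →ₐ[E] K' :=
    Algebra.TensorProduct.lift (Algebra.ofId E K') (IsScalarTower.toAlgHom k K K') fun _ _ => Commute.all _ _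
  have hf : ⇑f = ⇑(Algebra.TensorProduct.productMap (IsScalarTower.toAlgHom k E K')
      (IsScalarTower.toAlgHom k K K')) := funext fun z => by
    induction z using TensorProduct.induction_on with
    | zero => simp
    | add a c ha hc => rw [map_add, map_add, ha, hc]
    | tmul c a => simp [f]
  let e₁ : E ⊗[k] K ≃ₐ[E] K' := AlgEquiv.ofBijective f (hf ▸ h)
  let Φ : kbar ⊗[E] K' ≃ₐ[kbar] kbar ⊗[k] K :=
    (Algebra.TensorProduct.congr (AlgEquiv.refl : kbar ≃ₐ[kbar] kbar) e₁.symm).trans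
      (Algebra.TensorProduct.cancelBaseChange k E kbar kbar K)
  have hΦ : ∀ p : E ⊗[k] K, Φ ((1 : kbar) ⊗ₜ[E] e₁ p) = Algebra.TensorProduct.map E.val (AlgHom.id k K) p := by
    intro p
    induction p using TensorProduct.induction_on with
    | zero => simp
    | add a c ha hc => rw [map_add, TensorProduct.tmul_add, map_add, map_add, ha, hc]
    | tmul c a =>
      show Algebra.TensorProduct.cancelBaseChange k E kbar kbar K ((1 : kbar) ⊗ₜ[E] e₁.symm (e₁ (c ⊗ₜ[k] a))) = _
      rw [AlgEquiv.symm_apply_apply, Algebra.TensorProduct.cancelBaseChange_tmul, Algebra.TensorProduct.map_tmul,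
        Algebra.smul_def, mul_one]
      rfl
  have hx1 : e₁ ((1 : E) ⊗ₜ[k] x) = x' := by
    show f ((1 : E) ⊗ₜ[k] x) = x'
    rw [hf]; simp [x']
  have hΦx : Φ ((1 : kbar) ⊗ₜ[E] x') = (1 : kbar) ⊗ₜ[k] x := by
    rw [← hx1, hΦ, Algebra.TensorProduct.map_tmul, map_one]; rfl
  set A := Algebra.adjoin kbar ({(1 : kbar) ⊗ₜ[k] x} : Set (kbar ⊗[k] K))
  set A' := Algebra.adjoin kbar ({(1 : kbar) ⊗ₜ[E] x'} : Set (kbar ⊗[E] K'))
  have hmemA : ∀ a ∈ A', Φ a ∈ A := by
    intro a ha
    induction ha using Algebra.adjoin_induction with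
    | mem w hw => rw [Set.mem_singleton_iff.1 hw, hΦx]; exact Algebra.subset_adjoin rfl
    | algebraMap c => rw [AlgEquiv.commutes]; exact A.algebraMap_mem c
    | add u w _ _ hu hw => rw [map_add]; exact add_mem hu hw
    | mul u w _ _ hu hw => rw [map_mul]; exact mul_mem hu hw
  have hmemA' : ∀ a ∈ A, Φ.symm a ∈ A' := by
    intro a ha
    induction ha using Algebra.adjoin_induction with
    | mem w hw =>
      rw [Set.mem_singleton_iff.1 hw, ← hΦx, AlgEquiv.symm_apply_apply]; exact Algebra.subset_adjoin rfl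
    | algebraMap c => rw [AlgEquiv.commutes]; exact A'.algebraMap_mem c
    | add u w _ _ hu hw => rw [map_add]; exact add_mem hu hw
    | mul u w _ _ hu hw => rw [map_mul]; exact mul_mem hu hw
  set G : Set K' := (fun p => e₁ p) '' (V : Set (E ⊗[k] K))
  have hG : Gens E kbar x' G := by
    intro z hz
    let φ : A' →+* A := (Φ.toAlgHom.toRingHom.comp A'.subtype).codRestrict A fun a => hmemA a a.2
    have hz' : IsIntegral A (Φ z) := hz.map_of_comp_eq φ Φ.toAlgHom.toRingHom (RingHom.ext fun _ => rfl)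
    have h1 := Submodule.mem_map_of_mem (f := Φ.symm.toLinearMap) (hV _ hz')
    rw [Submodule.map_span, AlgEquiv.toLinearMap_apply, AlgEquiv.symm_apply_apply] at h1
    refine Submodule.span_mono ?_ h1
    rintro _ ⟨_, ⟨m, w, hw, rfl⟩, rfl⟩
    refine ⟨m, e₁ w, ⟨w, hw, rfl⟩, ?_⟩
    rw [AlgEquiv.toLinearMap_apply, ← hΦ, ← hΦx, ← map_pow, ← map_mul, AlgEquiv.symm_apply_apply,
      Algebra.TensorProduct.tmul_pow, one_pow, Algebra.TensorProduct.tmul_mul_tmul, one_mul]
  refine nonsingular_of_gens hK' hx' hG Q hQx ?_ hR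
  rintro _ ⟨v, hv, rfl⟩
  have h0 := isIntegral_adjoin_map (Φ.symm : kbar ⊗[k] K →ₐ[kbar] kbar ⊗[E] K') (hVi v (Finset.mem_coe.1 hv))
  have e1 : (Φ.symm : kbar ⊗[k] K →ₐ[kbar] kbar ⊗[E] K') ((1 : kbar) ⊗ₜ[k] x) = (1 : kbar) ⊗ₜ[E] x' :=
    Φ.symm_apply_eq.2 hΦx.symm
  have e2 : (Φ.symm : kbar ⊗[k] K →ₐ[kbar] kbar ⊗[E] K') (Algebra.TensorProduct.map E.val (AlgHom.id k K) v) =
      (1 : kbar) ⊗ₜ[E] e₁ v := Φ.symm_apply_eq.2 (hΦ v).symm
  rw [e1, e2] at h0
  exact val_le_one_of_integral_tensor Q hQx h0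

theorem exists_purelyInseparable_nonsingular (hK : IsFunctionField k K) (hg : IsGeometric k K) :
    ∃ (k' : Type u) (_ : Field k') (_ : Algebra k k'), FiniteDimensional k k' ∧ IsPurelyInseparable k k' ∧
      ∀ (K' : Type v) [Field K'] [Algebra K K'] [Algebra k' K'] [Algebra k K']
        [IsScalarTower k k' K'] [IsScalarTower k K K'],
        Function.Bijective (Algebra.TensorProduct.productMap
          (IsScalarTower.toAlgHom k k' K') (IsScalarTower.toAlgHom k K K')) →
        ∀ (Q : Place k' K') (k'' : Type u) [Field k''] [Algebra k' k''] [FiniteDimensional k' k'']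
          (K'' : Type v) [Field K''] [Algebra K' K''] [Algebra k'' K''] [Algebra k' K'']
          [IsScalarTower k' k'' K''] [IsScalarTower k' K' K''],
          Function.Bijective (Algebra.TensorProduct.productMap
            (IsScalarTower.toAlgHom k' k'' K'') (IsScalarTower.toAlgHom k' K' K'')) →
          integralClosure (Q.O.toSubring.map (algebraMap K' K'')) K'' =
            Algebra.adjoin (Q.O.toSubring.map (algebraMap K' K'')) (Set.range (algebraMap k'' K'')) := by
  classical
  obtain ⟨x, hx, hsep⟩ := exists_separating hK hg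
  haveI := hsep
  have hyi : Transcendental k x⁻¹ := fun h => hx (inv_inv x ▸ h.inv)
  have heq : IntermediateField.adjoin k ({x⁻¹} : Set K) = IntermediateField.adjoin k ({x} : Set K) := by
    refine le_antisymm ?_ ?_ <;> rw [IntermediateField.adjoin_simple_le_iff]
    · exact inv_mem (IntermediateField.mem_adjoin_simple_self k x)
    · simpa using inv_mem (IntermediateField.mem_adjoin_simple_self k x⁻¹)
  haveI : Algebra.IsSeparable (IntermediateField.adjoin k ({x⁻¹} : Set K)) K := by rw [heq]; exact hsep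
  obtain ⟨C₁, hC₁, hV₁⟩ := exists_fixed_generators (kbar := AlgebraicClosure k) hK hg hx
  obtain ⟨C₂, hC₂, hV₂⟩ := exists_fixed_generators (kbar := AlgebraicClosure k) hK hg hyi
  set E := IntermediateField.adjoin k ((C₁ ∪ C₂ : Finset (AlgebraicClosure k)) : Set (AlgebraicClosure k))
  have hsub : ((C₁ ∪ C₂ : Finset (AlgebraicClosure k)) : Set (AlgebraicClosure k)) ⊆ E :=
    IntermediateField.subset_adjoin k _
  haveI := finite_adjoin_finset (k := k) (C₁ ∪ C₂)
  have hE : IsPurelyInseparable k E := by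
    rw [← le_perfectClosure_iff, IntermediateField.adjoin_le_iff]
    intro c hc
    rcases Finset.mem_union.1 (Finset.mem_coe.1 hc) with h | h
    · exact hC₁ c h
    · exact hC₂ c h
  obtain ⟨V₁, hV₁i, hV₁s⟩ := hV₁ E fun c hc => hsub (by simp [Finset.mem_coe.1 hc])
  obtain ⟨V₂, hV₂i, hV₂s⟩ := hV₂ E fun c hc => hsub (by simp [Finset.mem_coe.1 hc])
  refine ⟨E, inferInstance, inferInstance, inferInstance, hE, ?_⟩
  intro K' _ _ _ _ _ _ h Q k'' _ _ _ K'' _ _ _ _ _ _ hb
  by_cases hQ : Q.1 (algebraMap K K' x) ≤ 1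
  · exact nonsingular_model hK hg hx E V₁ hV₁i hV₁s h Q hQ hb
  · refine nonsingular_model hK hg hyi E V₂ hV₂i hV₂s h Q ?_ hb
    rw [map_inv₀, map_inv₀]
    exact inv_le_one_of_one_le₀ (not_le.1 hQ).le

end Groth.Agent.FunFld.ScalarExt
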