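import Groth.Agent.FunFld.ScalarExt.Basic
import Groth.Agent.FunFld.Residue.DiffExpDual
import Mathlib.FieldTheory.SeparableDegree
import Mathlib.FieldTheory.SeparableClosure
import Mathlib.FieldTheory.PurelyInseparable.Basic
import Mathlib.Algebra.Polynomial.Identities
import Mathlib.RingTheory.Flat.Basic

/-! Places above a nonsingular place in a splitting field. -/

set_option autoImplicit false
set_option linter.style.haveILetI false
universe u v w

open WithZero _root_.FunFld Polynomial IsLocalRing
open scoped TensorProduct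

noncomputable section

attribute [-instance] IsLocalRing.instModuleResidueFieldOfAlgebra

namespace Groth.Agent.FunFld.ScalarExt

variable {k k' : Type u} {K K' : Type v} [Field k] [Field k'] [Field K] [Field K'] [Algebra k k']
  [Algebra k K] [Algebra K K'] [Algebra k' K'] [Algebra k K'] [IsScalarTower k k' K'] [IsScalarTower k K K']

theorem exists_const_of_deg_one (Q : Place k' K') (hQ : Q.deg = 1) {z : K'} (hz : Q.1 z ≤ 1) :
    ∃ c : k', Q.1 (z - algebraMap k' K' c) < 1 := by
  have h1 : (resL Q ⟨1, (map_one Q.1).le⟩ : ResidueField Q.O) ≠ 0 := fun e => by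
    have h2 : Q.1 (1 : K') < 1 := (resL_eq_zero Q _).1 e
    rw [map_one] at h2
    exact lt_irrefl _ h2
  obtain ⟨c, hc⟩ := (finrank_eq_one_iff_of_nonzero' _ h1).1 hQ (resL Q ⟨z, hz⟩)
  refine ⟨c, ?_⟩
  rw [← LinearMap.map_smul, eq_comm, ← sub_eq_zero, ← map_sub, resL_eq_zero] at hc
  rwa [Submodule.coe_sub, Submodule.coe_smul, ← Algebra.algebraMap_eq_smul_one] at hc

omit [Algebra k k'] [Algebra k K] [Algebra K K'] [Algebra k K'] [IsScalarTower k k' K'] [IsScalarTower k K K'] in
theorem const_eq_zero (Q : Place k' K') {c : k'} (h : Q.1 (algebraMap k' K' c) < 1) : c = 0 := by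
  by_contra hc
  rw [val_algebraMap Q hc] at h
  exact lt_irrefl _ h

omit [Algebra k k'] [Algebra k K] [Algebra K K'] [Algebra k K'] [IsScalarTower k k' K'] [IsScalarTower k K K'] in
theorem const_unique (Q : Place k' K') {z : K'} {c c' : k'} (h : Q.1 (z - algebraMap k' K' c) < 1)
    (h' : Q.1 (z - algebraMap k' K' c') < 1) : c = c' := by
  refine sub_eq_zero.1 (const_eq_zero Q ?_)
  rw [map_sub, show algebraMap k' K' c - algebraMap k' K' c' =
    (z - algebraMap k' K' c') - (z - algebraMap k' K' c) by ring]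
  exact (Q.1.map_sub _ _).trans_lt (max_lt h' h)

theorem exists_residueHom {P : Place k K} (Q : Place k' K') {e : ℕ}
    (he : ∀ z : K, Q.1 (algebraMap K K' z) = P.1 z ^ e) (hQ : Q.deg = 1) :
    ∃ ψ : ResidueField P.O →ₐ[k] k',
      ∀ a : P.O, Q.1 (algebraMap K K' (a : K) - algebraMap k' K' (ψ (residue P.O a))) < 1 := by
  have he0 : e ≠ 0 := by rintro rfl; simpa using he 0
  have hle : ∀ a : P.O, Q.1 (algebraMap K K' (a : K)) ≤ 1 := fun a => by rw [he]; exact pow_le_one' a.2 e
  choose c hc using fun a : P.O => exists_const_of_deg_one Q hQ (hle a)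
  have hwd : ∀ a b : P.O, residue P.O a = residue P.O b → c a = c b := by
    intro a b hab
    refine const_unique Q (hc a) ?_
    rw [← sub_eq_zero, ← map_sub, residue_eq_zero_iff, mem_maximalIdeal, mem_nonunits_iff] at hab
    have h1 : P.1 ((a : K) - b) < 1 :=
      (Valuation.Integer.not_isUnit_iff_valuation_lt_one (v := P.1) (x := ((a - b : P.O)))).1 hab
    have h2 : Q.1 (algebraMap K K' ((a : K) - b)) < 1 := by rw [he]; exact pow_lt_one₀ zero_le h1 he0
    rw [show algebraMap K K' (a : K) - algebraMap k' K' (c b) =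
      algebraMap K K' ((a : K) - b) + (algebraMap K K' (b : K) - algebraMap k' K' (c b)) by rw [map_sub]; ring]
    exact (Q.1.map_add _ _).trans_lt (max_lt h2 (hc b))
  choose l hl using (residue_surjective : Function.Surjective (residue P.O))
  have key : ∀ a : P.O, c (l (residue P.O a)) = c a := fun a => hwd _ _ (hl _)
  have hc1 : c 1 = 1 := const_unique Q (hc 1) (by simp)
  have hadd : ∀ a b : P.O, c (a + b) = c a + c b := fun a b => const_unique Q (hc _) (by
    rw [AddMemClass.coe_add, map_add, map_add, add_sub_add_comm]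
    exact (Q.1.map_add _ _).trans_lt (max_lt (hc a) (hc b)))
  have hmul : ∀ a b : P.O, c (a * b) = c a * c b := fun a b => const_unique Q (hc _) (by
    rw [MulMemClass.coe_mul, map_mul, map_mul, show algebraMap K K' (a : K) * algebraMap K K' (b : K) -
      algebraMap k' K' (c a) * algebraMap k' K' (c b) = algebraMap K K' (a : K) *
        (algebraMap K K' (b : K) - algebraMap k' K' (c b)) +
        algebraMap k' K' (c b) * (algebraMap K K' (a : K) - algebraMap k' K' (c a)) by ring]
    refine (Q.1.map_add _ _).trans_lt (max_lt ?_ ?_) <;> rw [map_mul]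
    · exact mul_lt_one_of_nonneg_of_lt_one_right (hle a) zero_le (hc b)
    · exact mul_lt_one_of_nonneg_of_lt_one_right (Q.2.1 _) zero_le (hc a))
  refine ⟨{ toFun := fun r => c (l r), map_one' := ?_, map_mul' := ?_, map_zero' := ?_, map_add' := ?_,
            commutes' := ?_ }, fun a => ?_⟩
  · rw [← map_one (residue P.O), key, hc1]
  · intro r r'
    obtain ⟨a, rfl⟩ := residue_surjective r
    obtain ⟨b, rfl⟩ := residue_surjective r'
    rw [← map_mul, key, key, key, hmul]
  · rw [← map_zero (residue P.O), key]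
    exact const_unique Q (hc 0) (by simp)
  · intro r r'
    obtain ⟨a, rfl⟩ := residue_surjective r
    obtain ⟨b, rfl⟩ := residue_surjective r'
    rw [← map_add, key, key, key, hadd]
  · intro r
    show c (l (residue P.O (algebraMap k P.O r))) = _
    rw [key]
    refine const_unique Q (hc _) ?_
    rw [show ((algebraMap k P.O r : P.O) : K) = algebraMap k K r from rfl, ← IsScalarTower.algebraMap_apply,
      ← IsScalarTower.algebraMap_apply, sub_self, map_zero]
    exact zero_lt_one
  · show Q.1 (_ - algebraMap k' K' (c (l (residue P.O a)))) < 1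
    rw [key]
    exact hc a

omit [Algebra k k'] [Algebra k K] [Algebra K K'] [Algebra k K'] [IsScalarTower k k' K'] [IsScalarTower k K K'] in
/-- Hensel uniqueness. -/
theorem val_sub_le_of_root (Q : Place k' K') {g : k'[X]} {c : k'} (hgc : g.eval c = 0)
    (hsep : g.derivative.eval c ≠ 0) {A : K'} (hA : Q.1 A ≤ 1) (hlt : Q.1 (A - algebraMap k' K' c) < 1) :
    Q.1 (A - algebraMap k' K' c) ≤ Q.1 (aeval A g) := by
  let C' : Q.O := ⟨algebraMap k' K' c, Q.2.1 c⟩
  let d : Q.O := ⟨A - algebraMap k' K' c, hlt.le⟩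
  obtain ⟨q, hq⟩ := Polynomial.binomExpansion (g.map (algebraMap k' Q.O)) C' d
  rw [Polynomial.derivative_map, Polynomial.eval_map, Polynomial.eval_map, Polynomial.eval_map] at hq
  have hcoe : ∀ (p : k'[X]) (a : Q.O), ((eval₂ (algebraMap k' Q.O) a p : Q.O) : K') = aeval (a : K') p := fun p a => by
    have h1 := Polynomial.hom_eval₂ p (algebraMap k' Q.O) Q.O.subtype a
    rw [aeval_def]
    exact h1
  have hq' := congrArg (fun z : Q.O => (z : K')) hq
  simp only [AddMemClass.coe_add, MulMemClass.coe_mul, SubmonoidClass.coe_pow, hcoe, C', d,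
    aeval_algebraMap_apply, coe_aeval_eq_eval, hgc, map_zero, zero_add] at hq'
  rw [add_sub_cancel] at hq'
  rcases eq_or_ne (A - algebraMap k' K' c) 0 with h0 | h0
  · rw [h0, map_zero]; exact zero_le
  have h1 : Q.1 (algebraMap k' K' (g.derivative.eval c) * (A - algebraMap k' K' c)) = Q.1 (A - algebraMap k' K' c) := by
    rw [map_mul, val_algebraMap Q hsep, one_mul]
  have h2 : Q.1 ((q : K') * (A - algebraMap k' K' c) ^ 2) < Q.1 (A - algebraMap k' K' c) := by
    rw [map_mul, map_pow]
    refine (mul_le_mul' q.2 le_rfl).trans_lt ?_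
    rw [one_mul, pow_two]
    exact mul_lt_of_lt_one_left (zero_lt_iff.2 (Q.1.ne_zero_iff.2 h0)) hlt
  rw [hq', Valuation.map_add_eq_of_lt_left Q.1 (h2.trans_eq h1.symm), h1]

theorem ramification_le (Q : Place k' K') {P : Place k K} {e : ℕ} (he : ∀ z : K, Q.1 (algebraMap K K' z) = P.1 z ^ e)
    (ψ : ResidueField P.O →ₐ[k] k')
    (hψ : ∀ a : P.O, Q.1 (algebraMap K K' (a : K) - algebraMap k' K' (ψ (residue P.O a))) < 1)
    [FiniteDimensional k (ResidueField P.O)]
    (hclose : ∀ z : K', Q.1 z ≤ 1 → ∃ s : k' ⊗[k] P.O, Q.1 (z - Algebra.TensorProduct.productMap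
      (IsScalarTower.toAlgHom k k' K') ((IsScalarTower.toAlgHom k K K').comp
        ({ P.O.subtype with commutes' := fun _ => rfl } : P.O →ₐ[k] K)) s) ≤ exp (-(e : ℤ))) :
    e ≤ Module.finrank (separableClosure k (ResidueField P.O)) (ResidueField P.O) := by
  classical
  set F := separableClosure k (ResidueField P.O)
  haveI : FiniteDimensional F (ResidueField P.O) := Module.Finite.of_restrictScalars_finite k F _
  set i := Module.finrank F (ResidueField P.O)
  let v := Module.finBasis F (ResidueField P.O)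
  choose l hl using (residue_surjective : Function.Surjective (residue P.O))
  have he0 : e ≠ 0 := by rintro rfl; simpa using he 0
  have hm : ∀ a : P.O, residue P.O a = 0 → Q.1 (algebraMap K K' (a : K)) ≤ exp (-(e : ℤ)) := by
    intro a ha
    rw [residue_eq_zero_iff, mem_maximalIdeal, mem_nonunits_iff] at ha
    have h1 := (lt_one_iff_le P).1 ((Valuation.Integer.not_isUnit_iff_valuation_lt_one (v := P.1) (x := a)).1 ha)
    rw [he]
    refine (pow_le_pow_left' h1 e).trans ?_
    rw [← exp_nsmul, exp_le_exp]; simp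
  have hle : ∀ a : P.O, Q.1 (algebraMap K K' (a : K)) ≤ 1 := fun a => by rw [he]; exact pow_le_one' a.2 e
  let W : Submodule k' K' :=
    { carrier := {z | Q.1 z ≤ exp (-(e : ℤ))}
      add_mem' := fun ha hb => (Q.1.map_add _ _).trans (max_le ha hb)
      zero_mem' := by simp
      smul_mem' := fun c z hz => (val_smul_le Q c z).trans hz }
  let Λ : (Fin i → k') →ₗ[k'] K' ⧸ W :=
    W.mkQ ∘ₗ (Fintype.linearCombination k' fun j => algebraMap K K' ((l (v j) : P.O) : K))
  have hΛ : ∀ s : k' ⊗[k] P.O, W.mkQ (Algebra.TensorProduct.productMap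
      (IsScalarTower.toAlgHom k k' K') ((IsScalarTower.toAlgHom k K K').comp
        ({ P.O.subtype with commutes' := fun _ => rfl } : P.O →ₐ[k] K)) s) ∈ LinearMap.range Λ := by
    intro s
    induction s using TensorProduct.induction_on with
    | zero => simp only [map_zero]; exact zero_mem _
    | add a b ha hb => simp only [map_add]; exact add_mem ha hb
    | tmul c a =>
      refine ⟨fun j => c * ψ (v.repr (residue P.O a) j : ResidueField P.O), ?_⟩
      show W.mkQ (Fintype.linearCombination k' _ _) = W.mkQ (algebraMap k' K' c * algebraMap K K' (a : K))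
      rw [Submodule.mkQ_apply, Submodule.mkQ_apply, Submodule.Quotient.eq]
      show Q.1 _ ≤ exp (-(e : ℤ))
      set α := fun j => (v.repr (residue P.O a) j : ResidueField P.O)
      have hA : ∀ j, Q.1 (algebraMap K K' ((l (α j) : P.O) : K) - algebraMap k' K' (ψ (α j))) ≤ exp (-(e : ℤ)) := by
        intro j
        have hsep : IsSeparable k (α j) := mem_separableClosure_iff.1 (v.repr (residue P.O a) j).2
        set g := minpoly k (α j)
        have h1 : (g.map (algebraMap k k')).eval (ψ (α j)) = 0 := by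
          rw [eval_map_algebraMap, Polynomial.aeval_algHom_apply, minpoly.aeval, map_zero]
        have h2 : (g.map (algebraMap k k')).derivative.eval (ψ (α j)) ≠ 0 := by
          rw [derivative_map, eval_map_algebraMap, Polynomial.aeval_algHom_apply]
          exact (_root_.map_ne_zero ψ).2 (Separable.aeval_derivative_ne_zero hsep (minpoly.aeval k _))
        have h3 := hψ (l (α j))
        rw [hl] at h3
        refine (val_sub_le_of_root Q h1 h2 (hle _) h3).trans ?_
        rw [aeval_map_algebraMap, aeval_algebraMap_apply]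
        have h4 : residue P.O (aeval (l (α j)) g) = 0 := by
          rw [aeval_def, Polynomial.hom_eval₂, hl]
          exact minpoly.aeval k (α j)
        have h5 := hm _ h4
        have h6 : ((aeval (l (α j)) g : P.O) : K) = aeval ((l (α j) : P.O) : K) g := by
          have h7 := Polynomial.hom_eval₂ g (algebraMap k P.O) P.O.subtype (l (α j))
          rw [aeval_def, aeval_def]
          exact h7
        rwa [h6] at h5
      have hrem : residue P.O (a - ∑ j, l (α j) * l (v j)) = 0 := by
        rw [map_sub, map_sum, sub_eq_zero]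
        simp only [map_mul, hl]
        conv_lhs => rw [← v.sum_repr (residue P.O a)]
        rfl
      have h8 := hm _ hrem
      rw [AddSubgroupClass.coe_sub, AddSubmonoidClass.coe_finsetSum, map_sub, map_sum] at h8
      simp only [MulMemClass.coe_mul, map_mul] at h8
      have e1 : Fintype.linearCombination k' (fun j => algebraMap K K' ((l (v j) : P.O) : K))
          (fun j => c * ψ (α j)) - algebraMap k' K' c * algebraMap K K' (a : K) =
          - algebraMap k' K' c * ((algebraMap K K' (a : K) -
              ∑ j, algebraMap K K' ((l (α j) : P.O) : K) * algebraMap K K' ((l (v j) : P.O) : K)) +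
            ∑ j, (algebraMap K K' ((l (α j) : P.O) : K) - algebraMap k' K' (ψ (α j))) *
              algebraMap K K' ((l (v j) : P.O) : K)) := by
        rw [Fintype.linearCombination_apply]
        simp only [Algebra.smul_def, map_mul, sub_mul, Finset.sum_sub_distrib, mul_assoc, ← Finset.mul_sum]
        ring
      rw [e1, map_mul, Valuation.map_neg]
      refine (mul_le_mul' (Q.2.1 c) ((Q.1.map_add _ _).trans (max_le h8 (Valuation.map_sum_le _ fun j _ => ?_)))).trans
        (one_mul _).le
      rw [map_mul]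
      exact (mul_le_mul' (hA j) (hle _)).trans (mul_one _).le
  obtain ⟨π, hπ⟩ := exists_val Q (-1)
  have hπn : ∀ n : ℕ, Q.1 (π ^ n) = exp (-(n : ℤ)) := fun n => by rw [map_pow, hπ, ← exp_nsmul]; simp
  have hrange : ∀ n : Fin e, W.mkQ (π ^ (n : ℕ)) ∈ LinearMap.range Λ := by
    intro n
    obtain ⟨s, hs⟩ := hclose (π ^ (n : ℕ)) (by rw [hπn, ← exp_zero, exp_le_exp]; omega)
    have h9 : W.mkQ (π ^ (n : ℕ)) = W.mkQ (Algebra.TensorProduct.productMap
      (IsScalarTower.toAlgHom k k' K') ((IsScalarTower.toAlgHom k K K').comp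
        ({ P.O.subtype with commutes' := fun _ => rfl } : P.O →ₐ[k] K)) s) := (Submodule.Quotient.eq W).2 hs
    rw [h9]
    exact hΛ s
  have hli : LinearIndependent k' fun n : Fin e => W.mkQ (π ^ (n : ℕ)) := by
    rw [Fintype.linearIndependent_iff]
    intro g hg
    rw [← Finset.sum_congr rfl fun n _ => map_smul W.mkQ (g n) _, ← map_sum, Submodule.mkQ_apply,
      Submodule.Quotient.mk_eq_zero] at hg
    by_contra hne
    push Not at hne
    obtain ⟨J, hJ, hmin⟩ := (Finset.univ.filter fun n => g n ≠ 0).exists_minimal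
      ⟨hne.choose, Finset.mem_filter.2 ⟨Finset.mem_univ _, hne.choose_spec⟩⟩
    have hgJ : g J ≠ 0 := (Finset.mem_filter.1 hJ).2
    have hval : Q.1 (∑ n, g n • π ^ (n : ℕ)) = exp (-((J : ℕ) : ℤ)) := by
      rw [Q.1.map_sum_eq_of_lt (Finset.mem_univ J), val_smul Q hgJ, hπn]
      intro n hn
      rw [Finset.mem_sdiff, Finset.mem_singleton] at hn
      rw [val_smul Q hgJ, hπn J]
      rcases eq_or_ne (g n) 0 with h0 | h0
      · rw [h0, zero_smul, map_zero]; exact exp_pos
      · rw [val_smul Q h0, hπn, exp_lt_exp]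
        have : ¬ n ≤ J := fun h => hn.2 (le_antisymm h (hmin (Finset.mem_filter.2 ⟨Finset.mem_univ _, h0⟩) h))
        have := Fin.not_le.1 this
        omega
    have hg' : Q.1 (∑ n, g n • π ^ (n : ℕ)) ≤ exp (-(e : ℤ)) := hg
    rw [hval, exp_le_exp] at hg'
    have := J.2
    omega
  have h10 : e ≤ Module.finrank k' (LinearMap.range Λ) := by
    have h11 : LinearIndependent k' fun n : Fin e => (⟨_, hrange n⟩ : LinearMap.range Λ) :=
      LinearIndependent.of_comp (LinearMap.range Λ).subtype hli
    simpa using h11.fintype_card_le_finrank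
  exact h10.trans ((LinearMap.finrank_range_le Λ).trans (Module.finrank_fin_fun k').le)

theorem card_places_splitting [FiniteDimensional k k']
    (h : Function.Bijective (Algebra.TensorProduct.productMap
      (IsScalarTower.toAlgHom k k' K') (IsScalarTower.toAlgHom k K K')))
    (hK : IsFunctionField k K) (P : Place k K)
    (hns : integralClosure (P.O.toSubring.map (algebraMap K K')) K' =
        Algebra.adjoin (P.O.toSubring.map (algebraMap K K')) (Set.range (algebraMap k' K')))
    (hsplit : ∀ Q : Place k' K', (∃ e : ℕ, ∀ z : K, Q.1 (algebraMap K K' z) = P.1 z ^ e) → Q.deg = 1) :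
    {Q : Place k' K' | ∃ e : ℕ, ∀ z : K, Q.1 (algebraMap K K' z) = P.1 z ^ e}.Finite ∧
    {Q : Place k' K' | ∃ e : ℕ, ∀ z : K, Q.1 (algebraMap K K' z) = P.1 z ^ e}.ncard =
      Field.finSepDegree k (ResidueField P.O) ∧
    ∀ Q : Place k' K', (∃ e : ℕ, ∀ z : K, Q.1 (algebraMap K K' z) = P.1 z ^ e) →
      ∀ z : K, Q.1 (algebraMap K K' z) = P.1 z ^ Module.finrank (separableClosure k (ResidueField P.O)) (ResidueField P.O) := by
  classical
  haveI := finiteDimensional_constExt (K := K) (K' := K') h
  haveI hres : @Module.Finite k (ResidueField P.O) _ _ Algebra.toModule := residue_finite hK P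
  letI : Algebra P.O K' := ((algebraMap K K').comp P.O.subtype).toAlgebra
  haveI : IsScalarTower P.O K K' := IsScalarTower.of_algebraMap_eq fun _ => rfl
  set kP := ResidueField P.O
  set kbar := AlgebraicClosure k
  set ι : k' →ₐ[k] kbar := IsAlgClosed.lift
  let down : Place k' K' → Place k K' := fun Q => ⟨Q.1, fun c => by
    rw [IsScalarTower.algebraMap_apply k k' K']; exact Q.2.1 _, Q.2.2⟩
  let up : Place k K' → Place k' K' := fun Q => ⟨Q.1, val_const_le Q, Q.2.2⟩
  have hdeg : ∀ Q : Place k K', Module.finrank k k' * (up Q).deg = Q.deg := fun Q => by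
    let R := IsLocalRing.ResidueField (up Q).O
    let iK : Algebra k R := Place.algRes Q
    let iC : Algebra k' R := Place.algRes (up Q)
    have hT : @IsScalarTower k k' R Algebra.toSMul iC.toSMul iK.toSMul :=
      IsScalarTower.of_algebraMap_eq fun c => congrArg (IsLocalRing.residue (up Q).O)
        (Subtype.ext (IsScalarTower.algebraMap_apply k k' K' c))
    exact @Module.finrank_mul_finrank k k' R _ _ _ _ iC.toModule iK.toModule hT _ _ _ _
  set S₀ := placesOver hK K' P
  have hmem : ∀ Q : Place k' K', (∃ e : ℕ, ∀ z : K, Q.1 (algebraMap K K' z) = P.1 z ^ e) ↔ down Q ∈ S₀ := fun Q =>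
    (mem_placesOver (K' := K') hK (P := P) (Q := down Q)).symm
  have hset : {Q : Place k' K' | ∃ e : ℕ, ∀ z : K, Q.1 (algebraMap K K' z) = P.1 z ^ e} = ↑(S₀.image up) := by
    ext Q
    rw [Finset.coe_image, Set.mem_image]
    refine ⟨fun hQ => ⟨down Q, (hmem Q).1 hQ, Subtype.ext rfl⟩, ?_⟩
    rintro ⟨R, hR, rfl⟩
    exact (mem_placesOver hK).1 hR
  have hR' : ∀ R : S₀, ∃ ψ : kP →ₐ[k] k', ∀ a : P.O,
      (up R.1).1 (algebraMap K K' (a : K) - algebraMap k' K' (ψ (residue P.O a))) < 1 := fun R =>
    exists_residueHom (up R.1) (isOverWith_of_isOver ((mem_placesOver hK).1 R.2))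
      (hsplit _ ((mem_placesOver hK).1 R.2))
  choose ψ hψ using hR'
  -- the ring `k' ⊗ O_P`
  let inc : P.O →ₐ[k] K := { P.O.subtype with commutes' := fun _ => rfl }
  set Θ := Algebra.TensorProduct.productMap (IsScalarTower.toAlgHom k k' K')
    ((IsScalarTower.toAlgHom k K K').comp inc) with hΘdef
  have hΘt : ∀ (c : k') (a : P.O), Θ (c ⊗ₜ[k] a) = algebraMap k' K' c * algebraMap K K' (a : K) := fun _ _ => rfl
  have hΘinj : Function.Injective Θ := by
    have e1 : ⇑Θ = ⇑(Algebra.TensorProduct.productMap (IsScalarTower.toAlgHom k k' K') (IsScalarTower.toAlgHom k K K')) ∘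
        ⇑(LinearMap.lTensor k' inc.toLinearMap) := funext fun s => by
      induction s using TensorProduct.induction_on with
      | zero => simp
      | add a b ha hb => simp only [Function.comp_apply, map_add] at ha hb ⊢; rw [ha, hb]
      | tmul c a => rfl
    rw [e1]
    exact h.1.comp (Module.Flat.lTensor_preserves_injective_linearMap _ Subtype.val_injective)
  have hΘR : ∀ z : K', (∀ R ∈ S₀, R.1 z ≤ 1) → ∃ s, Θ s = z := by
    intro z hz
    have h1 : z ∈ integralClosure (P.O.toSubring.map (algebraMap K K')) K' := by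
      rw [mem_integralClosure_iff, isIntegral_image_iff P (algebraMap K K').injective,
        Residue.isIntegral_iff_places hK]
      exact fun R hR => hz R ((mem_placesOver hK).2 hR)
    rw [hns] at h1
    show z ∈ Θ.range
    clear hz
    induction h1 using Algebra.adjoin_induction with
    | mem w hw => obtain ⟨c, rfl⟩ := hw; exact ⟨c ⊗ₜ[k] 1, by show Θ _ = _; rw [hΘt]; simp⟩
    | algebraMap r =>
      obtain ⟨_, a, ha, rfl⟩ := r
      exact ⟨(1 : k') ⊗ₜ[k] (⟨a, ha⟩ : P.O), by show Θ _ = _; rw [hΘt, map_one, one_mul]; rfl⟩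
    | add a b _ _ ha hb => exact add_mem ha hb
    | mul a b _ _ ha hb => exact mul_mem ha hb
  have hΘle : ∀ R ∈ S₀, ∀ s, R.1 (Θ s) ≤ 1 := by
    intro R hR s
    induction s using TensorProduct.induction_on with
    | zero => simp
    | add a b ha hb => rw [map_add]; exact (R.1.map_add _ _).trans (max_le ha hb)
    | tmul c a =>
      rw [hΘt, map_mul]
      exact mul_le_one' (val_const_le R c) ((val_le_one_iff ((mem_placesOver hK).1 hR) _).2 a.2)
  let res : P.O →ₐ[k] kP := { residue P.O with commutes' := fun _ => rfl }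
  let τ : (kP →ₐ[k] k') → (k' ⊗[k] P.O →ₐ[k] k') := fun σ =>
    Algebra.TensorProduct.productMap (AlgHom.id k k') (σ.comp res)
  have hτ : ∀ (R : S₀) s, (up R.1).1 (Θ s - algebraMap k' K' (τ (ψ R) s)) < 1 := by
    intro R s
    induction s using TensorProduct.induction_on with
    | zero => simp
    | add a b ha hb =>
      rw [map_add, map_add, map_add, add_sub_add_comm]
      exact ((up R.1).1.map_add _ _).trans_lt (max_lt ha hb)
    | tmul c a =>
      rw [hΘt, show τ (ψ R) (c ⊗ₜ[k] a) = c * ψ R (residue P.O a) from rfl, map_mul, ← mul_sub, map_mul]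
      exact mul_lt_one_of_nonneg_of_lt_one_right ((up R.1).2.1 c) zero_le (hψ R a)
  -- distinct places give distinct homomorphisms
  have hinj : Function.Injective ψ := by
    intro R R' hRR'
    by_contra hne
    obtain ⟨u, hu⟩ := exists_approx S₀ (fun S => if S = R.1 then 0 else 1) (-1)
    have hu1 : ∀ S ∈ S₀, S.1 u ≤ 1 := fun S hS => by
      have h1 := (hu S hS).trans (show exp (-1 : ℤ) ≤ 1 by rw [← exp_zero, exp_le_exp]; norm_num)
      rw [← sub_add_cancel u (if S = R.1 then 0 else 1)]
      refine (S.1.map_add _ _).trans (max_le h1 ?_)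
      split_ifs <;> simp
    obtain ⟨s, hs⟩ := hΘR u hu1
    have hlt : exp (-1 : ℤ) < 1 := by rw [← exp_zero, exp_lt_exp]; norm_num
    have h2 : (up R.1).1 u < 1 := by
      have := hu R.1 R.2
      rw [if_pos rfl, sub_zero] at this
      exact this.trans_lt hlt
    have h3 := hτ R s
    rw [hs] at h3
    have h4 : τ (ψ R) s = 0 := const_unique (up R.1) h3 (by rw [map_zero, sub_zero]; exact h2)
    have h5 := hτ R' s
    rw [← hRR', h4, map_zero, sub_zero, hs] at h5
    have h6 := hu R'.1 R'.2
    rw [if_neg fun e => hne (Subtype.ext e.symm)] at h6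
    have h7 : R'.1.1 u = 1 :=
      (Valuation.map_eq_of_sub_lt _ (by rw [map_one]; exact h6.trans_lt hlt)).trans (map_one _)
    exact absurd h5 (by rw [show (up R'.1).1 u = R'.1.1 u from rfl, h7]; exact lt_irrefl _)
  -- every embedding comes from a place
  have hsurj : ∀ σ : kP →ₐ[k] kbar, ∃ R : S₀, σ = ι.comp (ψ R) := by
    intro σ
    let σT : k' ⊗[k] P.O →ₐ[k] kbar := Algebra.TensorProduct.productMap ι (σ.comp res)
    by_contra hcon
    push Not at hcon
    have hex : ∀ R : S₀, ∃ s, R.1.1 (Θ s) < 1 ∧ σT s ≠ 0 := by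
      intro R
      by_contra hR
      push Not at hR
      refine hcon R (AlgHom.ext fun r => ?_)
      obtain ⟨a, rfl⟩ := residue_surjective r
      have h1 := hR ((1 : k') ⊗ₜ[k] a - ψ R (residue P.O a) ⊗ₜ[k] 1) (by
        rw [map_sub, hΘt, hΘt, map_one, one_mul, OneMemClass.coe_one, map_one, mul_one]
        exact hψ R a)
      rw [map_sub] at h1
      simp only [σT, Algebra.TensorProduct.productMap_apply_tmul, map_one, one_mul, mul_one, sub_eq_zero,
        AlgHom.comp_apply] at h1
      exact h1
    choose g hg1 hg2 using hex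
    set G := ∏ R : S₀, g R
    have hG : σT G ≠ 0 := by rw [map_prod]; exact Finset.prod_ne_zero_iff.2 fun R _ => hg2 R
    have hGv : ∀ R ∈ S₀, R.1 (Θ G) ≤ exp (-1) := by
      intro R hR
      refine (lt_one_iff_le R).1 ?_
      rw [map_prod, map_prod, ← Finset.mul_prod_erase _ _ (Finset.mem_univ (⟨R, hR⟩ : S₀))]
      exact mul_lt_one_of_nonneg_of_lt_one_left zero_le (hg1 ⟨R, hR⟩)
        (Finset.prod_le_one' fun S _ => hΘle R hR (g S))
    obtain ⟨t, ht⟩ := exists_val P (-1)
    set N := ∑ R ∈ S₀, ramIdx R P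
    have ht0 : algebraMap K K' t ≠ 0 := (_root_.map_ne_zero _).2 (ne_zero_of_val P ht)
    obtain ⟨w, hw⟩ := hΘR (Θ (G ^ N) / algebraMap K K' t) fun R hR => by
      rw [map_div₀, isOverWith_of_isOver ((mem_placesOver hK).1 hR), ht, map_pow, map_pow,
        div_le_one₀ (pow_pos exp_pos _)]
      refine (pow_le_pow_left' (hGv R hR) N).trans ?_
      rw [← exp_nsmul, ← exp_nsmul, exp_le_exp]
      simp only [nsmul_eq_mul, mul_neg, mul_one, neg_le_neg_iff, Nat.cast_le]
      exact Finset.single_le_sum (f := fun R => ramIdx R P) (fun _ _ => Nat.zero_le _) hR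
    have ht1 : t ∈ P.O := by show P.1 t ≤ 1; rw [ht, ← exp_zero, exp_le_exp]; norm_num
    have hGN : G ^ N = ((1 : k') ⊗ₜ[k] (⟨t, ht1⟩ : P.O)) * w := hΘinj (by
      rw [map_mul, hw, hΘt, map_one, one_mul, mul_div_cancel₀ _ ht0])
    have h0 : σT ((1 : k') ⊗ₜ[k] (⟨t, ht1⟩ : P.O)) = 0 := by
      show ι 1 * σ (residue P.O ⟨t, ht1⟩) = 0
      have hr0 : residue P.O ⟨t, ht1⟩ = 0 := by
        rw [residue_eq_zero_iff, mem_maximalIdeal, mem_nonunits_iff]
        refine (Valuation.Integer.not_isUnit_iff_valuation_lt_one (v := P.1) (x := (⟨t, ht1⟩ : P.O))).2 ?_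
        show P.1 t < 1
        rw [ht, ← exp_zero, exp_lt_exp]; norm_num
      rw [hr0, map_zero, mul_zero]
    have h1 := congrArg σT hGN
    rw [map_mul, h0, zero_mul, map_pow] at h1
    exact hG (eq_zero_of_pow_eq_zero h1)
  have hcard : S₀.card = Field.finSepDegree k kP := by
    haveI : Algebra.IsAlgebraic k kP := Algebra.IsAlgebraic.of_finite k kP
    rw [Field.finSepDegree_eq_of_isAlgClosed k kP kbar]
    refine (Eq.trans ?_ (Nat.card_congr (Equiv.ofBijective (fun R : S₀ => ι.comp (ψ R))
      ⟨fun R R' e => hinj (AlgHom.ext fun r => ι.injective (AlgHom.congr_fun e r)),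
        fun σ => by obtain ⟨R, rfl⟩ := hsurj σ; exact ⟨R, rfl⟩⟩)))
    rw [Nat.card_eq_fintype_card, Fintype.card_coe]
  have hupinj : Function.Injective up := fun a b e => Subtype.ext (congrArg (fun R : Place k' K' => R.1) e)
  refine ⟨hset ▸ (S₀.image up).finite_toSet, ?_, ?_⟩
  · rw [hset, Set.ncard_coe_finset, Finset.card_image_of_injective _ hupinj, hcard]
  -- the ramification indices
  set i := Module.finrank (separableClosure k kP) kP
  have hle : ∀ R ∈ S₀, ramIdx R P ≤ i := by
    intro R hR
    refine ramification_le (up R) (isOverWith_of_isOver ((mem_placesOver hK).1 hR)) (ψ ⟨R, hR⟩) (hψ ⟨R, hR⟩) ?_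
    intro z hz
    obtain ⟨z', hz'⟩ := exists_approx S₀ (fun S => if S = R then z else 0) (-(ramIdx R P : ℤ))
    have hz1 : ∀ S ∈ S₀, S.1 z' ≤ 1 := fun S hS => by
      have h1 := (hz' S hS).trans (show exp (-(ramIdx R P : ℤ)) ≤ 1 by rw [← exp_zero, exp_le_exp]; omega)
      rw [← sub_add_cancel z' (if S = R then z else 0)]
      refine (S.1.map_add _ _).trans (max_le h1 ?_)
      split_ifs with hSR
      · subst hSR; exact hz
      · simp
    obtain ⟨s, hs⟩ := hΘR z' hz1
    refine ⟨s, ?_⟩
    show R.1 (z - Θ s) ≤ _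
    rw [hs, Valuation.map_sub_swap]
    simpa using hz' R hR
  have hsum : ∑ R ∈ S₀, ramIdx R P = Module.finrank k kP := by
    have h1 := sum_ramIdx_mul_deg (K' := K') hK P
    have hfr : Module.finrank K K' = Module.finrank k k' := by
      obtain ⟨b, -⟩ := exists_const_basis h
      rw [Module.finrank_eq_card_basis b, Fintype.card_fin]
    rw [Finset.sum_congr rfl fun R hR => by
      rw [← hdeg R, hsplit (up R) ((mem_placesOver hK).1 hR), mul_one], ← Finset.sum_mul, hfr, mul_comm] at h1
    exact Nat.eq_of_mul_eq_mul_left Module.finrank_pos h1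
  have hdim : Module.finrank k kP = S₀.card * i := by
    haveI : Algebra.IsAlgebraic k kP := Algebra.IsAlgebraic.of_finite k kP
    rw [hcard, Field.finSepDegree_eq k kP, Field.sepDegree]
    show Module.finrank k kP = Module.finrank k (separableClosure k kP) * i
    exact (Module.finrank_mul_finrank k (separableClosure k kP) kP).symm
  intro Q hQ z
  obtain ⟨e, he⟩ := hQ
  have hQ0 : down Q ∈ S₀ := (hmem Q).1 ⟨e, he⟩
  have heq : ramIdx (down Q) P = i := by
    refine (Finset.sum_eq_sum_iff_of_le hle).1 ?_ (down Q) hQ0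
    rw [hsum, hdim, Finset.sum_const, smul_eq_mul]
  rw [← heq]
  exact isOverWith_of_isOver ((mem_placesOver hK).1 hQ0) z

end Groth.Agent.FunFld.ScalarExt
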